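import Mathlib.GroupTheory.SpecificGroups.Alternating
import Mathlib.GroupTheory.Sylow
import Mathlib.GroupTheory.GroupAction.Quotient
import Mathlib.Tactic

/-!
# A Sylow 2-subgroup of `A₈` has no central subgroup of index four
-/

set_option autoImplicit false
set_option maxRecDepth 100000
set_option linter.style.haveILetI false

namespace CfsgLib.A8Three

open Subgroup Equiv

theorem card_sylow_eight (P : Sylow 2 ↥(alternatingGroup (Fin 8))) :
    Nat.card (P : Subgroup ↥(alternatingGroup (Fin 8))) = 64 := by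
  haveI : Fact (Nat.Prime 2) := ⟨Nat.prime_two⟩
  have hA : Nat.card ↥(alternatingGroup (Fin 8)) = 2 ^ 6 * 315 := by
    rw [Nat.card_eq_fintype_card, card_alternatingGroup]; rfl
  rw [P.card_eq_multiplicity, hA, Nat.factorization_mul (by norm_num) (by norm_num), Finsupp.add_apply,
    Nat.factorization_pow_self Nat.prime_two, Nat.factorization_eq_zero_of_not_dvd (by norm_num), add_zero]
  rfl

/-- `(12)(34)`, `(13)(24)`, `(56)(78)`, `(57)(68)` and their products. -/
abbrev doubleFour (q : (Bool × Bool) × Bool × Bool) : Perm (Fin 8) :=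
  (if q.1.1 then swap 0 1 * swap 2 3 else 1) * (if q.1.2 then swap 0 2 * swap 1 3 else 1) *
    (if q.2.1 then swap 4 5 * swap 6 7 else 1) * (if q.2.2 then swap 4 6 * swap 5 7 else 1)

/-- `(15)(26)(37)(48)` -/
abbrev blockSwap : Perm (Fin 8) := swap 0 4 * swap 1 5 * swap 2 6 * swap 3 7

theorem doubleFour_sign : ∀ q, Perm.sign (doubleFour q) = 1 := by decide +kernel

theorem blockSwap_sign : Perm.sign blockSwap = 1 ∧ blockSwap * blockSwap = 1 ∧ blockSwap ≠ 1 := by
  decide +kernel

theorem doubleFour_mul : ∀ q r, ∃ s, doubleFour q * doubleFour r = doubleFour s := by decide +kernel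

theorem doubleFour_sq : ∀ q, doubleFour q * doubleFour q = 1 := by decide +kernel

theorem doubleFour_conj : ∀ q, blockSwap * doubleFour q * blockSwap = doubleFour (q.2, q.1) := by
  decide +kernel

theorem commutators_ne :
    blockSwap * doubleFour ((true, false), false, false) * blockSwap * doubleFour ((true, false), false, false) ≠ 1 ∧
    blockSwap * doubleFour ((false, true), false, false) * blockSwap * doubleFour ((false, true), false, false) ≠ 1 ∧
    blockSwap * doubleFour ((true, false), false, false) * blockSwap * doubleFour ((true, false), false, false) ≠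
      blockSwap * doubleFour ((false, true), false, false) * blockSwap * doubleFour ((false, true), false, false) := by
  decide +kernel

theorem card_four_cases {X : Type*} [Group X] [Finite X] (h : Nat.card X = 4) {x y : X}
    (hx : x ≠ 1) (hy : y ≠ 1) (hxy : x ≠ y) (hne : x * y ≠ 1) (w : X) :
    w = 1 ∨ w = x ∨ w = y ∨ w = x * y := by
  classical
  haveI := Fintype.ofFinite X
  have hcard : ({1, x, y, x * y} : Finset X).card = Fintype.card X := by
    rw [← Nat.card_eq_fintype_card, h]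
    have h1 : x ≠ x * y := fun e => hy (by rwa [left_eq_mul] at e)
    have h2 : y ≠ x * y := fun e => hx (by rwa [right_eq_mul] at e)
    simp [Ne.symm hx, Ne.symm hy, hxy, Ne.symm hne, h1, h2]
  have := Finset.eq_univ_of_card _ hcard
  have hw : w ∈ ({1, x, y, x * y} : Finset X) := this ▸ Finset.mem_univ w
  simpa using hw

theorem conj_comm_eq {X : Type*} [Group X] (g s d : X) (hs : s⁻¹ = s) (hd : d⁻¹ = d) :
    g * s * g⁻¹ * (g * d * g⁻¹) * (g * s * g⁻¹)⁻¹ * (g * d * g⁻¹)⁻¹ = g * (s * d * s * d) * g⁻¹ := by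
  rw [mul_inv_rev, mul_inv_rev, mul_inv_rev, mul_inv_rev, inv_inv, hs, hd]
  group

theorem no_central_sixteen (P : Sylow 2 ↥(alternatingGroup (Fin 8)))
    (B : Subgroup (P : Subgroup ↥(alternatingGroup (Fin 8))))
    (hB : B ≤ center (P : Subgroup ↥(alternatingGroup (Fin 8)))) (h16 : Nat.card B = 16) : False := by
  classical
  haveI : Fact (Nat.Prime 2) := ⟨Nat.prime_two⟩
  let σ : ↥(alternatingGroup (Fin 8)) := ⟨blockSwap, Perm.mem_alternatingGroup.2 blockSwap_sign.1⟩
  let d : (Bool × Bool) × Bool × Bool → ↥(alternatingGroup (Fin 8)) := fun q => ⟨doubleFour q, Perm.mem_alternatingGroup.2 (doubleFour_sign q)⟩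
  let E : Subgroup ↥(alternatingGroup (Fin 8)) :=
    { carrier := Set.range d
      one_mem' := ⟨((false, false), false, false), Subtype.ext (by simp [d, doubleFour])⟩
      mul_mem' := by
        rintro _ _ ⟨q, rfl⟩ ⟨r, rfl⟩
        obtain ⟨s, hs⟩ := doubleFour_mul q r
        exact ⟨s, Subtype.ext hs.symm⟩
      inv_mem' := by
        rintro _ ⟨q, rfl⟩
        exact ⟨q, (inv_eq_of_mul_eq_one_right (Subtype.ext (doubleFour_sq q))).symm⟩ }
  have hE : IsPGroup 2 E := by
    rintro ⟨_, q, rfl⟩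
    exact ⟨1, Subtype.ext (by rw [pow_one, sq]; exact Subtype.ext (doubleFour_sq q))⟩
  have hσ2 : σ * σ = 1 := Subtype.ext blockSwap_sign.2.1
  have hσi : σ⁻¹ = σ := inv_eq_of_mul_eq_one_right hσ2
  have hσN : σ ∈ normalizer (E : Set ↥(alternatingGroup (Fin 8))) := by
    have hc : ∀ q, σ * d q * σ⁻¹ = d (q.2, q.1) := fun q => by
      rw [hσi]; exact Subtype.ext (doubleFour_conj q)
    refine mem_normalizer_iff.2 fun x => ⟨?_, fun h => ?_⟩
    · rintro ⟨q, rfl⟩
      exact ⟨(q.2, q.1), (hc q).symm⟩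
    · obtain ⟨q, hq⟩ := h
      refine ⟨(q.2, q.1), ?_⟩
      rw [← hc, hq, hσi, show σ * (σ * x * σ) * σ = (σ * σ) * x * (σ * σ) by group, hσ2, one_mul, mul_one]
  have hK : IsPGroup 2 (E ⊔ zpowers σ : Subgroup ↥(alternatingGroup (Fin 8))) :=
    hE.to_sup_of_normal_left' (IsPGroup.of_card (n := 1) (by
      rw [Nat.card_zpowers, orderOf_eq_prime (by rw [sq, hσ2]) (fun h => blockSwap_sign.2.2 (congrArg Subtype.val h)),
        pow_one])) (zpowers_le.2 hσN)
  obtain ⟨S, hS⟩ := hK.exists_le_sylow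
  obtain ⟨g, hg⟩ := MulAction.exists_smul_eq ↥(alternatingGroup (Fin 8)) S P
  have hmem : ∀ x ∈ E ⊔ zpowers σ, g * x * g⁻¹ ∈ (P : Subgroup ↥(alternatingGroup (Fin 8))) := fun x hx => by
    rw [← hg]; exact ⟨x, hS hx, rfl⟩
  let u : ↥(P : Subgroup ↥(alternatingGroup (Fin 8))) := ⟨_, hmem σ (mem_sup_right (mem_zpowers σ))⟩
  let v : ↥(P : Subgroup ↥(alternatingGroup (Fin 8))) := ⟨_, hmem (d ((true, false), false, false)) (mem_sup_left ⟨_, rfl⟩)⟩
  let v' : ↥(P : Subgroup ↥(alternatingGroup (Fin 8))) := ⟨_, hmem (d ((false, true), false, false)) (mem_sup_left ⟨_, rfl⟩)⟩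
  let κ : ↥(P : Subgroup ↥(alternatingGroup (Fin 8))) → ↥(P : Subgroup ↥(alternatingGroup (Fin 8))) → ↥(P : Subgroup ↥(alternatingGroup (Fin 8))) := fun a b => a * b * a⁻¹ * b⁻¹
  have hval : ∀ q (h : d q ∈ E ⊔ zpowers σ),
      (κ u ⟨_, hmem _ h⟩ : ↥(alternatingGroup (Fin 8))) = g * (σ * d q * σ * d q) * g⁻¹ := fun q h => by
    show (g * σ * g⁻¹) * (g * d q * g⁻¹) * (g * σ * g⁻¹)⁻¹ * (g * d q * g⁻¹)⁻¹ = _
    have hdi : (d q)⁻¹ = d q := inv_eq_of_mul_eq_one_right (Subtype.ext (doubleFour_sq q))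
    exact conj_comm_eq g σ (d q) hσi hdi
  have hval1 : (κ u v : ↥(alternatingGroup (Fin 8))) = g * (σ * d ((true, false), false, false) * σ * d ((true, false), false, false)) * g⁻¹ :=
    hval ((true, false), false, false) (mem_sup_left ⟨_, rfl⟩)
  have hval2 : (κ u v' : ↥(alternatingGroup (Fin 8))) = g * (σ * d ((false, true), false, false) * σ * d ((false, true), false, false)) * g⁻¹ :=
    hval ((false, true), false, false) (mem_sup_left ⟨_, rfl⟩)
  have hne1 : κ u v ≠ 1 := fun h => commutators_ne.1 (by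
    rw [h, Subgroup.coe_one, eq_comm, mul_inv_eq_one, mul_eq_left] at hval1
    simpa only [σ, d, Subgroup.coe_mul, Subgroup.coe_one] using congrArg Subtype.val hval1)
  have hne2 : κ u v' ≠ 1 := fun h => commutators_ne.2.1 (by
    rw [h, Subgroup.coe_one, eq_comm, mul_inv_eq_one, mul_eq_left] at hval2
    simpa only [σ, d, Subgroup.coe_mul, Subgroup.coe_one] using congrArg Subtype.val hval2)
  have hne3 : κ u v ≠ κ u v' := fun h => commutators_ne.2.2 (by
    rw [h, hval2] at hval1
    simpa only [σ, d, Subgroup.coe_mul] using (congrArg Subtype.val (mul_left_cancel (mul_right_cancel hval1))).symm)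
  haveI hBn : B.Normal := ⟨fun b hb a => by
    rw [(mem_center_iff.1 (hB hb) a), mul_inv_cancel_right]; exact hb⟩
  have hQ : Nat.card (↥(P : Subgroup ↥(alternatingGroup (Fin 8))) ⧸ B) = 4 := by
    have h := Subgroup.card_eq_card_quotient_mul_card_subgroup B
    rw [card_sylow_eight P, h16] at h
    omega
  let mk := QuotientGroup.mk' B
  have hcongr : ∀ a b b', mk b = mk b' → κ a b = κ a b' := fun a b b' h => by
    obtain ⟨c, hc, rfl⟩ : ∃ c ∈ B, b' = b * c :=
      ⟨b⁻¹ * b', (QuotientGroup.eq.1 h), (mul_inv_cancel_left b b').symm⟩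
    have e := mem_center_iff.1 (hB hc)
    simp only [κ]
    rw [show a * (b * c) * a⁻¹ * (b * c)⁻¹ = a * b * (c * a⁻¹) * c⁻¹ * b⁻¹ by group, ← e a⁻¹]
    group
  have h1 : ∀ a b, mk b = 1 → κ a b = 1 := fun a b h => by
    rw [hcongr a b 1 (h.trans (map_one mk).symm)]; simp [κ]
  have hu : mk u ≠ 1 := fun h => hne1 (by
    have e := mem_center_iff.1 (hB ((QuotientGroup.eq_one_iff u).1 h)) v
    simp only [κ]; rw [← e, mul_inv_cancel_right, mul_inv_cancel])
  have hv : mk v ≠ 1 := fun h => hne1 (h1 u v h)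
  have hv' : mk v' ≠ 1 := fun h => hne2 (h1 u v' h)
  have huv : mk u ≠ mk v := fun h => hne1 (by rw [← hcongr u u v h]; simp [κ])
  have hprod : mk u * mk v ≠ 1 := fun h => by
    refine huv (mul_right_cancel (b := mk v) (h.trans ?_))
    rw [← map_mul, show v * v = 1 from Subtype.ext (Subtype.ext ?_), map_one]
    show (g : Perm (Fin 8)) * doubleFour _ * (g : Perm (Fin 8))⁻¹ * ((g : Perm (Fin 8)) * doubleFour _ * (g : Perm (Fin 8))⁻¹) = 1
    rw [conj_mul, doubleFour_sq, mul_one, mul_inv_cancel]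
  rcases card_four_cases hQ hu hv huv hprod (mk v') with h | h | h | h
  · exact hv' h
  · exact hne2 (by rw [hcongr u v' u h]; simp [κ])
  · exact hne3 (hcongr u v' v h).symm
  · rw [← map_mul] at h
    refine hne3 (Eq.symm ?_)
    have hc : κ u v ∈ B := by
      refine (QuotientGroup.eq_one_iff _).1 ?_
      haveI : IsMulCommutative (↥(P : Subgroup ↥(alternatingGroup (Fin 8))) ⧸ B) :=
        IsPGroup.isMulCommutative_of_card_eq_prime_sq (p := 2) (by rw [hQ]; rfl)
      show mk (u * v * u⁻¹ * v⁻¹) = 1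
      rw [map_mul, map_mul, map_mul, map_inv, map_inv, mul_comm' (mk u) (mk v), mul_inv_cancel_right,
        mul_inv_cancel]
    rw [hcongr u v' (u * v) h]
    have e := mem_center_iff.1 (hB hc) u
    calc κ u (u * v) = u * κ u v * u⁻¹ := by simp only [κ]; group
      _ = κ u v := by rw [e, mul_inv_cancel_right]

end CfsgLib.A8Three
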