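import Cfsg.Agent.A8Three.CentZ
import Cfsg.Agent.ZStar.Theorem

/-!
# The centralizer of `b`, and the conclusion for the model
-/

set_option autoImplicit false
set_option linter.style.haveILetI false
set_option linter.unusedSectionVars false

namespace CfsgLib.A8Three

open Subgroup

variable {G : Type*} [Group G] [Finite G] (M : Model G)

theorem decomp_conj {N : Subgroup G} {u n : G} (hn : n ∈ N)
    (h : ∀ y, y * u = u * y → ∃ r ∈ coreC u, ∃ m ∈ N, y = r * m) :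
    ∀ y, y * (n * u * n⁻¹) = n * u * n⁻¹ * y → ∃ r ∈ coreC (n * u * n⁻¹), ∃ m ∈ N, y = r * m := by
  intro y hy
  obtain ⟨r, hr, m, hm, e⟩ := h (n⁻¹ * y * n) (by
    calc n⁻¹ * y * n * u = n⁻¹ * (y * (n * u * n⁻¹)) * n := by group
      _ = n⁻¹ * (n * u * n⁻¹ * y) * n := by rw [hy]
      _ = _ := by group)
  refine ⟨n * r * n⁻¹, map_coreC n u hr, n * m * n⁻¹, mul_mem (mul_mem hn hm) (inv_mem hn), ?_⟩
  calc y = n * (n⁻¹ * y * n) * n⁻¹ := by group
    _ = _ := by rw [e]; group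

theorem mem_coreC_of_oddCore {u : G} {K : Subgroup G} (hK : K ≤ centralizer ({u} : Set G))
    (hconj : ∀ y ∈ centralizer ({u} : Set G), ∀ k ∈ K, y * k * y⁻¹ ∈ K) {x : K}
    (hx : x ∈ Cfsg.oddCore K) : (x : G) ∈ coreC u := by
  refine le_coreC (N := (Cfsg.oddCore K).map K.subtype) ((map_subtype_le _).trans hK) ?_ ?_ ⟨x, hx, rfl⟩
  · rw [← Nat.card_congr ((Cfsg.oddCore K).equivMapOfInjective _ K.subtype_injective).toEquiv]
    exact CfsgLib.Inv54.odd_card_oddCore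
  · rintro g hg _ ⟨b, hb, rfl⟩
    have hg' : g ∈ centralizer ({u} : Set G) := mem_centralizer_singleton_iff.2 hg
    let e : K ≃* K :=
      { toFun := fun a => ⟨g * a * g⁻¹, hconj g hg' a a.2⟩
        invFun := fun a => ⟨g⁻¹ * a * g, by simpa using hconj g⁻¹ (inv_mem hg') a a.2⟩
        left_inv := fun a => Subtype.ext (show g⁻¹ * (g * (a : G) * g⁻¹) * g = a by group)
        right_inv := fun a => Subtype.ext (show g * (g⁻¹ * (a : G) * g) * g⁻¹ = a by group)
        map_mul' := fun a b => Subtype.ext (show g * ((a : G) * b) * g⁻¹ = g * a * g⁻¹ * (g * b * g⁻¹) by group) }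
    exact ⟨e b, (CfsgLib.PLocal.map_pPrimeCore_equiv e).le ⟨b, hb, rfl⟩, rfl⟩

theorem sign_move : ∀ π : Equiv.Perm (Fin 5), π = Equiv.swap 4 0 * Equiv.swap 1 2 →
    Equiv.Perm.sign π = 1 ∧ Eqv (act π (ev 4)) (ev 0) := by decide +kernel

theorem fix_e01 : (1 : Fin 4) ≠ 0 ∧ Eqv (act (kl 1) (ev 0 + ev 1)) (ev 0 + ev 1) := by decide +kernel

theorem not_eqv_ev0_zero : ¬ Eqv (ev 0) 0 := by decide +kernel

/-- Eight inequivalent vectors. -/
abbrev eight (q : Fin 4 × Bool) : V5 := ev q.1.castSucc + if q.2 then ev 4 else 0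

theorem eight_inj : ∀ a c : Fin 4 × Bool, Eqv (eight a) (eight c) → a = c := by decide +kernel

theorem Model.cent_b (y : G) (hy : y * M.w (ev 0 + ev 1) = M.w (ev 0 + ev 1) * y) :
    ∃ r ∈ coreC (M.w (ev 0 + ev 1)), ∃ n ∈ M.N, y = r * n := by
  classical
  haveI : Fact (Nat.Prime 2) := ⟨Nat.prime_two⟩
  set b := M.w (ev 0 + ev 1) with hb
  set C := centralizer ({b} : Set G) with hC
  have hAC : M.A ≤ C := fun a ha => mem_centralizer_singleton_iff.2 (M.comm_A ha (M.w_mem _))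
  obtain ⟨hi, hfix⟩ := fix_e01
  have htC : M.tau 1 ∈ C := mem_centralizer_singleton_iff.2
    ((M.commute_iff (M.T_norm (M.tau_mem 1))).2 (by rw [M.tau_p]; exact hfix))
  obtain ⟨K, hKC, hAK, hconj, hdec, hodd, hcube, hmax⟩ := M.exists_kernel C hi hAC htC
    fun n hn hnN => stab_pair 1 hi _ even4_e01 not_low_e01 hfix _ (M.p_even n hnN)
      ((M.commute_iff hnN).1 (mem_centralizer_singleton_iff.1 hn))
  suffices h : ∀ y ∈ K, ∃ r ∈ coreC b, ∃ n ∈ M.N, y = r * n by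
    rcases hdec y (mem_centralizer_singleton_iff.2 hy) with h' | h'
    · exact h y h'
    · obtain ⟨r, hr, n, hn, e⟩ := h _ h'
      exact ⟨r, hr, n * M.tau 1, mul_mem hn (M.T_norm (M.tau_mem 1)),
        by rw [← mul_assoc, ← e, inv_mul_cancel_right]⟩
  set a : K := ⟨M.w (ev 0), hAK (M.w_mem _)⟩ with ha
  let P : Sylow 2 K := ⟨M.A.subgroupOf K,
    (M.T.isPGroup'.to_le M.le_T).comap_of_injective _ Subtype.val_injective,
    fun {R} hR hle => le_antisymm (fun x hx => mem_subgroupOf.2 (hmax _ (map_subtype_le R)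
      (hR.map K.subtype) (fun s hs => ⟨⟨s, hAK hs⟩, hle (mem_subgroupOf.2 hs), rfl⟩) ⟨x, hx, rfl⟩)) hle⟩
  have ha2 : a * a = 1 := Subtype.ext (M.w_sq _)
  have hao : orderOf a = 2 := by
    refine orderOf_eq_prime (by rw [sq, ha2]) fun h => ?_
    have := (M.w_one _).1 (congrArg Subtype.val h)
    exact not_eqv_ev0_zero this
  obtain ⟨N0, hN0, hN0odd, hc⟩ := CfsgLib.ZStar.exists_oddNormal_of_sylow P hao
    (mem_subgroupOf.2 (M.w_mem _)) (fun g hg => Subtype.ext (by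
      obtain ⟨n, hn, hnN, e⟩ := exists_fusion M.T M.le_T M.closed (fun a ha b hb => M.comm_A ha hb) hAK
        g.2 (M.w_mem (ev 0)) (mem_subgroupOf.1 hg)
      show (g : G) * M.w (ev 0) * (g : G)⁻¹ = M.w (ev 0)
      rw [← e, M.conj_w n hnN, M.w_eq]
      exact stab_three_pair _ (hcube n hn hnN)
        ((M.commute_iff hnN).1 (mem_centralizer_singleton_iff.1 (hKC hn)))))
  -- Frattini
  have hfr : ∀ g : K, ∃ d ∈ N0, d * g * a = a * (d * g) := by
    intro g
    set c := a * g * a⁻¹ * g⁻¹ with hcdef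
    have hcN : c ∈ N0 := hc g
    have hai : a⁻¹ = a := inv_eq_of_mul_eq_one_right ha2
    have hh : g * a * g⁻¹ = a * c := by
      rw [hcdef, hai]
      calc g * a * g⁻¹ = (a * a) * (g * a * g⁻¹) := by rw [ha2, one_mul]
        _ = _ := by group
    have hinv : a * c * a⁻¹ = c⁻¹ := by
      have h2 : g * a * g⁻¹ * (g * a * g⁻¹) = 1 := by
        calc g * a * g⁻¹ * (g * a * g⁻¹) = g * (a * a) * g⁻¹ := by group
          _ = 1 := by rw [ha2]; group
      rw [hh] at h2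
      rw [hai]
      exact eq_inv_of_mul_eq_one_left (by rw [← h2]; group)
    obtain ⟨k, hk⟩ := odd_orderOf_of_mem hN0odd hcN
    refine ⟨c ^ (k + 1), pow_mem hcN _, ?_⟩
    have hd : a * c ^ (k + 1) * a⁻¹ = (c ^ (k + 1))⁻¹ := by rw [← conj_pow, hinv, inv_pow]
    have hdd : c ^ (k + 1) * c ^ (k + 1) = c := by
      rw [← pow_add, show k + 1 + (k + 1) = orderOf c + 1 by omega, pow_succ, pow_orderOf_eq_one, one_mul]
    have e1 : a * (c ^ (k + 1))⁻¹ = c ^ (k + 1) * a := by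
      rw [← hd, hai, ← mul_assoc, ← mul_assoc, ha2, one_mul]
    have e2 : a * c ^ (k + 1) = (c ^ (k + 1))⁻¹ * a := mul_inv_eq_iff_eq_mul.1 hd
    calc c ^ (k + 1) * g * a = c ^ (k + 1) * (g * a * g⁻¹) * g := by group
      _ = c ^ (k + 1) * a * (c ^ (k + 1) * c ^ (k + 1)) * g := by rw [hh, hdd]; group
      _ = c ^ (k + 1) * (a * c ^ (k + 1)) * c ^ (k + 1) * g := by group
      _ = c ^ (k + 1) * ((c ^ (k + 1))⁻¹ * a) * c ^ (k + 1) * g := by rw [e2]
      _ = _ := by group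
  have hN0O : N0 ≤ Cfsg.oddCore K :=
    CfsgLib.PLocal.le_pPrimeCore (hN := hN0) (Nat.coprime_two_right.2 hN0odd)
  set R' : Subgroup K := (coreC (M.w (ev 0))).subgroupOf K with hR'
  have hR'O : R' ≤ Cfsg.oddCore K := by
    refine le_sup_left.trans (CfsgLib.PLocal.le_pPrimeCore (N := R' ⊔ Cfsg.oddCore K) (hN := ?_) ?_)
    · refine ⟨fun x hx g => ?_⟩
      obtain ⟨d, hd, hdg⟩ := hfr g
      have hmap : (R' ⊔ Cfsg.oddCore K).map (MulAut.conj (d * g)).toMonoidHom ≤ R' ⊔ Cfsg.oddCore K := by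
        rw [Subgroup.map_sup]
        refine sup_le ?_ ?_
        · rintro _ ⟨r, hr, rfl⟩
          refine mem_sup_left (mem_subgroupOf.2 ?_)
          exact conj_mem_coreC (congrArg Subtype.val hdg) (mem_subgroupOf.1 hr)
        · rintro _ ⟨r, hr, rfl⟩
          exact mem_sup_right ((inferInstance : (Cfsg.oddCore K).Normal).conj_mem r hr _)
      have h1 : d * g * x * (d * g)⁻¹ ∈ R' ⊔ Cfsg.oddCore K := hmap ⟨x, hx, rfl⟩
      have hd' : d ∈ R' ⊔ Cfsg.oddCore K := mem_sup_right (hN0O hd)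
      rw [show g * x * g⁻¹ = d⁻¹ * (d * g * x * (d * g)⁻¹) * d by group]
      exact mul_mem (mul_mem (inv_mem hd') h1) hd'
    · refine Nat.coprime_two_right.2 (Odd.of_dvd_nat (Odd.mul ?_ CfsgLib.Inv54.odd_card_oddCore)
        (CfsgLib.PLocal.card_sup_dvd_mul R' (Cfsg.oddCore K)))
      rw [hR', ← Subgroup.card_map_of_injective (f := K.subtype) K.subtype_injective]
      exact (odd_coreC _).of_dvd_nat (Subgroup.card_dvd_of_le (by
        rintro _ ⟨r, hr, rfl⟩; exact mem_subgroupOf.1 hr))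
  intro y hyK
  obtain ⟨d, hd, hdy⟩ := hfr ⟨y, hyK⟩
  obtain ⟨hπs, hπ⟩ := sign_move _ rfl
  obtain ⟨n, hnN, hn⟩ := M.p_surj _ hπs
  have hz0 : n * M.z * n⁻¹ = M.w (ev 0) := by rw [M.conj_w n hnN, hn, M.w_eq]; exact hπ
  have hdec0 := decomp_conj (N := M.N) hnN M.cent_z
  rw [hz0] at hdec0
  set x : G := (d : G) * y with hx
  obtain ⟨r, hr, m, hm, e⟩ := hdec0 x (congrArg Subtype.val hdy)
  have hxb : x * b = b * x := mem_centralizer_singleton_iff.1 (hKC (mul_mem d.2 hyK))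
  have hrb : r * b = b * r ∧ m * b = b * m := by
    set q := m * b * m⁻¹ * b with hq
    have hqA : q ∈ M.A := mul_mem ((mem_normalizer_iff.1 hm _).1 (M.w_mem _)) (M.w_mem _)
    have hqr : q = r⁻¹ * (b * r * b⁻¹) := by
      have e' : m * b = r⁻¹ * b * r * m := by
        calc m * b = r⁻¹ * (r * m * b) := by group
          _ = r⁻¹ * (b * (r * m)) := by rw [← e, hxb]
          _ = _ := by group
      rw [hq, e', hb, M.w_inv]; group
    have hq1 : q = 1 := eq_one_of_odd_sq (odd_coreC (M.w (ev 0)))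
      (hqr ▸ mul_mem (inv_mem hr) (conj_mem_coreC (M.comm_A (M.w_mem _) (M.w_mem _)) hr)) (M.sq_A hqA)
    rw [hq1] at hqr
    refine ⟨?_, ?_⟩
    · exact (mul_inv_eq_iff_eq_mul.1 (inv_mul_eq_one.1 hqr.symm).symm).symm
    · rw [hq, mul_eq_one_iff_eq_inv, hb, M.w_inv] at hq1
      exact mul_inv_eq_iff_eq_mul.1 hq1
  have hrK : r ∈ K := hodd r (mem_centralizer_singleton_iff.2 hrb.1) (odd_orderOf_of_mem (odd_coreC _) hr)
  have hr' := mem_coreC_of_oddCore hKC hconj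
    (mul_mem (inv_mem (hN0O hd)) (hR'O (show (⟨r, hrK⟩ : K) ∈ R' from mem_subgroupOf.2 hr)))
  refine ⟨_, hr', m, hm, ?_⟩
  show y = (d : G)⁻¹ * r * m
  rw [mul_assoc, ← e, hx, inv_mul_cancel_left]

/-- The conclusion for the model. -/
theorem Model.normal : (M.A ⊔ Cfsg.oddCore G).Normal := by
  refine (criterion M.T M.A M.le_T (fun a ha b hb => M.comm_A ha hb) (fun a ha => M.sq_A ha) ?_ ?_
    M.closed ?_ ⟨_, M.w_mem (ev 0), _, M.w_mem (ev 0 + ev 1), ?_, ?_, M.not_conj⟩).2.1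
  · have := Nat.card_le_card_of_injective (fun q => (⟨M.w (eight q), M.w_mem _⟩ : M.A))
      fun a c h => eight_inj a c (M.w_eq.1 (congrArg Subtype.val h))
    rwa [Nat.card_prod, Nat.card_fin, Nat.card_eq_fintype_card, Fintype.card_bool] at this
  · intro t ht hc
    refine M.mem_A_of_T ht (faithful _ fun i => (M.commute_iff (M.T_norm ht)).1 (hc _ (M.w_mem _)))
  · intro u hu hu1
    obtain ⟨v, rfl⟩ := M.w_surj u hu
    obtain ⟨π, hπ, h⟩ := orbit_cases v (fun h => hu1 ((M.w_one v).2 h))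
    obtain ⟨n, hn, rfl⟩ := M.p_surj π hπ
    have e : ∀ v', Eqv (act (M.p n) v) v' → n⁻¹ * M.w v' * n⁻¹⁻¹ = M.w v := fun v' hv' => by
      rw [← M.w_eq.2 hv', ← M.conj_w n hn]; group
    rcases h with h | h
    · have := decomp_conj (N := M.N) (inv_mem hn) M.cent_z
      rwa [e _ h] at this
    · have := decomp_conj (N := M.N) (inv_mem hn) M.cent_b
      rwa [e _ h] at this
  · intro h
    exact not_eqv_ev0_zero ((M.w_one _).1 h)
  · intro h
    exact not_eqv_e01_zero ((M.w_one _).1 h)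

end CfsgLib.A8Three
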