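import Cfsg.Agent.A8Three.Kernel

/-!
# The centralizer of a four group `<z, b>` has a normal 2-complement
-/

set_option autoImplicit false
set_option linter.style.haveILetI false
set_option linter.unusedSectionVars false

namespace CfsgLib.A8Three

open Subgroup

variable {G : Type*} [Group G] (M : Model G)

/-- The centralizer of `z` and `w v`. -/
def Model.Cpair (v : V5) : Subgroup G :=
  centralizer ({M.z} : Set G) ⊓ centralizer ({M.w v} : Set G)

theorem Model.mem_Cpair {v : V5} {y : G} :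
    y ∈ M.Cpair v ↔ y * M.z = M.z * y ∧ y * M.w v = M.w v * y := by
  simp [Model.Cpair, mem_inf, mem_centralizer_singleton_iff]

theorem Model.A_le_Cpair (v : V5) : M.A ≤ M.Cpair v := fun _ ha =>
  M.mem_Cpair.2 ⟨M.comm_A ha (M.w_mem _), M.comm_A ha (M.w_mem _)⟩

variable [Finite G]

theorem Model.exists_compl_pair {v : V5} (hv : Even4 v) (hv' : ¬ Low v) :
    ∃ O, IsCompl2 (M.Cpair v) ((M.T : Subgroup G) ⊓ M.Cpair v) O := by
  obtain ⟨i, hi, hfix, -⟩ := exists_fixing v hv hv'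
  have htC : M.tau i ∈ M.Cpair v := M.mem_Cpair.2 ⟨M.z_T _ (M.tau_mem i),
    (M.commute_iff (M.T_norm (M.tau_mem i))).2 (by rw [M.tau_p]; exact hfix)⟩
  obtain ⟨K, hKC, hAK, hconj, hdec, hodd, hcube, hmax⟩ := M.exists_kernel (M.Cpair v) hi
    (M.A_le_Cpair v) htC fun n hn hnN =>
      stab_pair i hi v hv hv' hfix _ (M.p_even n hnN) ((M.commute_iff hnN).1 (M.mem_Cpair.1 hn).2)
  obtain ⟨O, hO⟩ := exists_compl_of_abelian hAK (M.T.isPGroup'.to_le M.le_T) hmax
    (fun n hn hnA a ha => by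
      have hnN : n ∈ M.N := mem_normalizer_iff.2 hnA
      have hc := M.mem_Cpair.1 (hKC hn)
      have hp := stab_three _ (hcube n hn hnN) ((fix_four _).1 ((M.commute_iff hnN).1 hc.1)) v hv hv'
        ((M.commute_iff hnN).1 hc.2)
      obtain ⟨u, rfl⟩ := M.w_surj a ha
      exact (M.commute_iff hnN).2 (by rw [hp]; exact Or.inl (add_self_vec u)))
  exact ⟨O, hO.extend hKC (le_inf M.le_T (M.A_le_Cpair v)) (mem_inf.2 ⟨M.tau_mem i, htC⟩) hconj hdec hodd⟩

end CfsgLib.A8Three
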