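import Cfsg.Agent.A8Three.Criterion
import Cfsg.Agent.A8Three.Pair

/-!
# The centralizer of the involution `z`
-/

set_option autoImplicit false
set_option linter.style.haveILetI false
set_option linter.unusedSectionVars false

namespace CfsgLib.A8Three

open Subgroup

variable {G : Type*} [Group G] [Finite G] (M : Model G)

theorem Model.z_eq {v : V5} (hv : Low v) : M.w v = 1 ∨ M.w v = M.z := by
  rcases low_cases v hv with h | h
  · exact Or.inl ((M.w_one v).2 h)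
  · exact Or.inr (M.w_eq.2 h)

theorem Model.conj_mem_A {x g : G} (hx : x ∈ (M.T : Subgroup G)) (hg : g * x * g⁻¹ ∈ M.A) : x ∈ M.A := by
  have h := M.closed _ hg g⁻¹
  rw [show g⁻¹ * (g * x * g⁻¹) * g⁻¹⁻¹ = x by group] at h
  exact h hx

theorem Model.tau_notMem {i : Fin 4} (hi : i ≠ 0) : M.tau i ∉ M.A := fun h =>
  hi ((kl_spec i).2.2.2 ((M.tau_p i).symm.trans (M.p_mem_A h)))

/-- The subgroup of index two of `C(z)` with Sylow subgroup `T1`. -/
theorem Model.exists_H1 : ∃ H1 : Subgroup G, H1 ≤ centralizer ({M.z} : Set G) ∧ M.T1 ≤ H1 ∧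
    (∀ y ∈ centralizer ({M.z} : Set G), ∀ k ∈ H1, y * k * y⁻¹ ∈ H1) ∧
    (∀ y ∈ centralizer ({M.z} : Set G), y ∈ H1 ∨ y * M.w (ev 0) ∈ H1) ∧
    (∀ y ∈ centralizer ({M.z} : Set G), Odd (orderOf y) → y ∈ H1) ∧
    ∀ R : Subgroup G, R ≤ H1 → IsPGroup 2 R → M.T1 ≤ R → R ≤ M.T1 := by
  classical
  haveI : Fact (Nat.Prime 2) := ⟨Nat.prime_two⟩
  set H := centralizer ({M.z} : Set G) with hH
  have hTH : (M.T : Subgroup G) ≤ H := fun x hx => mem_centralizer_singleton_iff.2 (M.z_T x hx)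
  have hAH : M.A ≤ H := M.le_T.trans hTH
  have hrel : (M.T1.subgroupOf H).relIndex (M.T.subtype hTH : Subgroup H) = 2 := by
    rw [Sylow.coe_subtype, relIndex_subgroupOf hTH]
    show (M.T1.subgroupOf (M.T : Subgroup G)).index = 2
    rw [index_eq_two_iff]
    refine ⟨⟨M.w (ev 0), M.le_T (M.w_mem _)⟩, fun b => ?_⟩
    simp only [mem_subgroupOf, Subgroup.coe_mul]
    rcases M.T1_or b.2 with h | h
    · exact Or.inr ⟨h, fun h' => M.z0_notMem (by simpa using mul_mem (inv_mem h) h')⟩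
    · exact Or.inl ⟨h, fun h' => M.z0_notMem (by simpa using mul_mem (inv_mem h') h)⟩
  obtain ⟨f, hf1, hf2⟩ := exists_sign_hom (M.T.subtype hTH) (M.T1.subgroupOf H) hrel
  have hP : ∀ {x : H}, x ∈ (M.T.subtype hTH : Subgroup H) ↔ (x : G) ∈ (M.T : Subgroup G) := fun {x} => by
    rw [Sylow.coe_subtype, mem_subgroupOf]
  have hfus : ∀ (v : V5) (g : H), (g : G) * M.w v * (g : G)⁻¹ ∈ (M.T : Subgroup G) →
      ∃ π : Equiv.Perm (Fin 5), π 4 = 4 ∧ (g : G) * M.w v * (g : G)⁻¹ = M.w (act π v) := by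
    intro v g hg
    obtain ⟨n, hn, hnN, e⟩ := exists_fusion M.T M.le_T M.closed (fun a ha b hb => M.comm_A ha hb) hAH
      g.2 (M.w_mem v) (M.closed _ (M.w_mem v) _ hg)
    exact ⟨M.p n, (fix_four _).1 ((M.commute_iff hnN).1 (mem_centralizer_singleton_iff.1 hn)),
      by rw [← e, M.conj_w n hnN]⟩
  have hz0 : f ⟨M.w (ev 0), hAH (M.w_mem _)⟩ = -1 := hf2 _ (Subtype.ext (M.w_sq _)) fun g hg => by
    have hg' : (g : G) * M.w (ev 0) * (g : G)⁻¹ ∈ M.T1 := mem_subgroupOf.1 hg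
    obtain ⟨π, hπ, e⟩ := hfus _ g (M.T1_le hg')
    exact not_even4_of_fix_four π hπ (M.even_of_mem_T1 (e ▸ hg'))
  have htau : ∀ i, f ⟨M.tau i, hTH (M.tau_mem i)⟩ = 1 := fun i => hf1 _ (Subtype.ext (M.tau_sq i)) fun g hg => by
    rcases eq_or_ne i 0 with rfl | hi
    · refine mem_subgroupOf.2 ?_
      simp [M.tau_zero]
    refine mem_subgroupOf.2 (M.inv_mem_T1 (hP.1 hg) ?_ fun h => M.tau_notMem hi
      (M.conj_mem_A (M.tau_mem i) h))
    simp only [Subgroup.coe_mul, InvMemClass.coe_inv]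
    calc (g : G) * M.tau i * (g : G)⁻¹ * ((g : G) * M.tau i * (g : G)⁻¹) =
          (g : G) * (M.tau i * M.tau i) * (g : G)⁻¹ := by group
      _ = 1 := by rw [M.tau_sq]; group
  have hB0 : ∀ v, Even4 v → f ⟨M.w v, hAH (M.w_mem v)⟩ = 1 := fun v hv =>
    hf1 _ (Subtype.ext (M.w_sq v)) fun g hg => by
      obtain ⟨π, hπ, e⟩ := hfus v g (hP.1 hg)
      refine mem_subgroupOf.2 ?_
      show (g : G) * M.w v * (g : G)⁻¹ ∈ M.T1
      rw [e]
      exact M.w_mem_T1 (even4_act_fix π hπ v hv)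
  have hT1K : M.T1 ≤ f.ker.map H.subtype := by
    rintro _ ⟨i, v, hv, rfl⟩
    refine ⟨⟨M.tau i, hTH (M.tau_mem i)⟩ * ⟨M.w v, hAH (M.w_mem v)⟩, ?_, rfl⟩
    show f _ = 1
    rw [map_mul, htau, hB0 v hv, mul_one]
  have hKiff : ∀ {y : G} (hy : y ∈ H), y ∈ f.ker.map H.subtype ↔ f ⟨y, hy⟩ = 1 := fun hy => by
    constructor
    · rintro ⟨y', hy', rfl⟩; exact hy'
    · exact fun h => ⟨⟨_, hy⟩, h, rfl⟩
  refine ⟨f.ker.map H.subtype, map_subtype_le _, hT1K, ?_, ?_,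
    fun y hy hodd => (hKiff hy).2 (map_eq_one_of_odd f
      (IsPGroup.of_card (n := 1) (by rw [Nat.card_eq_fintype_card, Fintype.card_units_int, pow_one]))
      (by rw [Subgroup.orderOf_mk]; exact hodd)), ?_⟩
  · rintro y hy _ ⟨k, hk, rfl⟩
    refine ⟨⟨y, hy⟩ * k * (⟨y, hy⟩)⁻¹, ?_, rfl⟩
    show f _ = 1
    rw [map_mul, map_mul, map_inv, show f k = 1 from hk, mul_one, mul_inv_cancel]
  · intro y hy
    rcases Int.units_eq_one_or (f ⟨y, hy⟩) with h | h
    · exact Or.inl ((hKiff hy).2 h)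
    · refine Or.inr ((hKiff (mul_mem hy (hAH (M.w_mem _)))).2 ?_)
      show f (⟨y, hy⟩ * ⟨M.w (ev 0), hAH (M.w_mem _)⟩) = 1
      rw [map_mul, h, hz0]; rfl
  · intro R hRK hR hT1R
    obtain ⟨S, hS⟩ := (hR.comap_of_injective H.subtype Subtype.val_injective).exists_le_sylow
    obtain ⟨g, hg⟩ := MulAction.exists_smul_eq H S (M.T.subtype hTH)
    have hle : R.map (MulAut.conj (g : G)).toMonoidHom ≤ M.T1 := by
      rintro _ ⟨x, hx, rfl⟩
      show (g : G) * x * (g : G)⁻¹ ∈ M.T1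
      have hxH : x ∈ H := map_subtype_le _ (hRK hx)
      have hT : g * ⟨x, hxH⟩ * g⁻¹ ∈ (M.T.subtype hTH : Subgroup H) := by
        rw [← hg]; exact ⟨_, hS hx, rfl⟩
      rcases M.T1_or (hP.1 hT) with h | h
      · exact h
      · exfalso
        have h1 : f (g * ⟨x, hxH⟩ * g⁻¹ * ⟨M.w (ev 0), hAH (M.w_mem _)⟩) = 1 :=
          (hKiff (mul_mem (g * ⟨x, hxH⟩ * g⁻¹).2 (hAH (M.w_mem _)))).1 (hT1K h)
        rw [map_mul, map_mul, map_mul, map_inv, (hKiff hxH).1 (hRK hx), mul_one, mul_inv_cancel,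
          one_mul, hz0] at h1
        exact absurd h1 (by decide)
    refine (Subgroup.eq_of_le_of_card_ge hT1R ?_).ge
    rw [Nat.card_congr (R.equivMapOfInjective (MulAut.conj (g : G)).toMonoidHom (MulAut.conj (g : G)).injective).toEquiv]
    exact Nat.le_of_dvd Nat.card_pos (Subgroup.card_dvd_of_le hle)

/-- An element of odd order of `C(z)` normalizing `T1` and fixing some coset of `<z>` in it
centralizes `T1`. -/
theorem Model.commute_T1 {n : G} (hn : n * M.z = M.z * n) (hodd : Odd (orderOf n))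
    (hT1 : ∀ x ∈ M.T1, n * x * n⁻¹ ∈ M.T1) {u : G} (hu : u ∈ M.T1) (hu1 : u ≠ 1) (huz : u ≠ M.z)
    (hfix : n * u * n⁻¹ = u ∨ n * u * n⁻¹ = u * M.z) : ∀ x ∈ M.T1, n * x = x * n := by
  have hnu := commute_of_odd_mul hodd hn (M.w_sq _) hfix
  have step : ∀ v, Even4 v → ¬ Low v → n * M.w v = M.w v * n → ∀ x ∈ M.T1,
      x * M.w v = M.w v * x → n * x = x * n := by
    intro v hv hv' hnv x hx hxv
    obtain ⟨O, hO⟩ := M.exists_compl_pair hv hv'
    exact hO.commute (M.mem_Cpair.2 ⟨hn, hnv⟩) (M.mem_Cpair.2 ⟨M.z_T x (M.T1_le hx), hxv⟩) hodd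
      (M.T.isPGroup'.to_le M.T1_le) hx (hT1 x hx)
  obtain ⟨v₀, hv₀, hv₀', hnv₀⟩ : ∃ v, Even4 v ∧ ¬ Low v ∧ n * M.w v = M.w v * n := by
    obtain ⟨i, v, hv, rfl⟩ := hu
    rcases eq_or_ne i 0 with rfl | hi
    · rw [M.tau_zero, one_mul] at hu1 huz hnu
      exact ⟨v, hv, fun hl => (M.z_eq hl).elim hu1 huz, hnu⟩
    obtain ⟨a, ha, ha', hafix⟩ := exists_fixed i
    refine ⟨a, ha, ha', commute_of_odd_mul hodd hn (M.w_sq _) ?_⟩
    have hb := hT1 _ (M.w_mem_T1 ha)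
    obtain ⟨c, hc⟩ := M.w_surj _ (M.closed _ (M.w_mem a) _ (M.T1_le hb))
    have hceven : Even4 c := M.even_of_mem_T1 (hc ▸ hb)
    have hclow : ¬ Low c := by
      intro hl
      have e : M.w a = n⁻¹ * M.w c * n := by rw [hc]; group
      rcases M.z_eq hl with h | h <;> rw [h] at e
      · rw [mul_one, inv_mul_cancel, M.w_one] at e
        exact ha' ((low_eqv _ _ e).2 low_zero)
      · rw [mul_assoc, ← hn, inv_mul_cancel_left, M.w_eq] at e
        exact ha' ((low_eqv _ _ e).2 low_four)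
    have hau : M.tau i * M.w v * M.w a = M.w a * (M.tau i * M.w v) := by
      have h1 : M.tau i * M.w a = M.w a * M.tau i :=
        (M.commute_iff (M.T_norm (M.tau_mem i))).2 (by rw [M.tau_p]; exact hafix)
      rw [mul_assoc, M.comm_A (M.w_mem v) (M.w_mem a), ← mul_assoc, h1, mul_assoc]
    have hcu : M.tau i * M.w v * M.w c = M.w c * (M.tau i * M.w v) := by
      have h := congrArg (fun y => n * y * n⁻¹) hau
      rw [show n * (M.tau i * M.w v * M.w a) * n⁻¹ = n * (M.tau i * M.w v) * n⁻¹ * (n * M.w a * n⁻¹) by group,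
        show n * (M.w a * (M.tau i * M.w v)) * n⁻¹ = n * M.w a * n⁻¹ * (n * (M.tau i * M.w v) * n⁻¹) by group,
        hnu, mul_inv_cancel_right, ← hc] at h
      exact h
    have hcfix : Eqv (act (kl i) c) c := by
      rw [← M.tau_p i, ← M.commute_iff (M.T_norm (M.tau_mem i))]
      rw [mul_assoc, M.comm_A (M.w_mem v) (M.w_mem c), ← mul_assoc, ← mul_assoc] at hcu
      exact mul_right_cancel hcu
    rw [← hc]
    rcases M.z_eq (low_add_of_fixed i hi a ha ha' hafix c hceven hclow hcfix) with h | h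
    · exact Or.inl (by
        rw [M.w_add, mul_eq_one_iff_eq_inv, M.w_inv] at h
        exact h.symm)
    · exact Or.inr (by rw [← h, M.w_add, ← mul_assoc, M.w_sq, one_mul])
  have hB : ∀ v, Even4 v → n * M.w v = M.w v * n := fun v hv =>
    step v₀ hv₀ hv₀' hnv₀ _ (M.w_mem_T1 hv) (M.comm_A (M.w_mem v) (M.w_mem v₀))
  rintro x ⟨i, v, hv, rfl⟩
  obtain ⟨a, ha, ha', hafix⟩ := exists_fixed i
  refine step a ha ha' (hB a ha) _ ⟨i, v, hv, rfl⟩ ?_
  have h1 : M.tau i * M.w a = M.w a * M.tau i :=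
    (M.commute_iff (M.T_norm (M.tau_mem i))).2 (by rw [M.tau_p]; exact hafix)
  rw [mul_assoc, M.comm_A (M.w_mem v) (M.w_mem a), ← mul_assoc, h1, mul_assoc]

theorem Model.cent_z (y : G) (hy : y * M.z = M.z * y) :
    ∃ r ∈ coreC M.z, ∃ n ∈ M.N, y = r * n := by
  classical
  haveI : Fact (Nat.Prime 2) := ⟨Nat.prime_two⟩
  obtain ⟨H1, hH1, hT1H, hconj, hdec, hoddH, hmax⟩ := M.exists_H1
  have hAH : M.A ≤ centralizer ({M.z} : Set G) := fun a ha =>
    mem_centralizer_singleton_iff.2 (M.comm_A ha (M.w_mem _))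
  suffices h : ∀ y ∈ H1, ∃ r ∈ coreC M.z, ∃ n ∈ M.N, y = r * n by
    rcases hdec y (mem_centralizer_singleton_iff.2 hy) with h' | h'
    · exact h y h'
    · obtain ⟨r, hr, n, hn, e⟩ := h _ h'
      exact ⟨r, hr, n * M.w (ev 0), mul_mem hn (M.w_memN _), by rw [← mul_assoc, ← e, mul_assoc, M.w_sq, mul_one]⟩
  set zX : H1 := ⟨M.z, hT1H M.z_mem_T1⟩ with hzX
  set Z : Subgroup H1 := zpowers zX with hZdef
  have hzc : ∀ x : H1, zX * x = x * zX := fun x =>
    Subtype.ext (mem_centralizer_singleton_iff.1 (hH1 x.2)).symm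
  haveI : Z.Normal := ⟨fun a ha g => by
    obtain ⟨k, rfl⟩ := mem_zpowers_iff.1 ha
    rw [((show Commute zX g from hzc g).zpow_left k).symm.eq, mul_inv_cancel_right]
    exact ha⟩
  have hZ : ∀ x ∈ Z, (x : G) = 1 ∨ (x : G) = M.z := by
    intro x hx
    obtain ⟨k, rfl⟩ := mem_zpowers_iff.1 hx
    rw [Subgroup.coe_zpow]
    rcases Int.even_or_odd' k with ⟨j, rfl | rfl⟩
    · left; rw [zpow_mul, zpow_two, M.w_sq, one_zpow]
    · right; rw [zpow_add_one, zpow_mul, zpow_two, M.w_sq, one_zpow, one_mul]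
  have hZ' : ∀ {x : H1}, ((x : G) = 1 ∨ (x : G) = M.z) → x ∈ Z := by
    rintro x (h | h)
    · rw [show x = 1 from Subtype.ext h]; exact one_mem _
    · rw [show x = zX from Subtype.ext h]; exact mem_zpowers _
  set π := QuotientGroup.mk' Z with hπdef
  have hπ1 : ∀ {x : H1}, π x = 1 ↔ ((x : G) = 1 ∨ (x : G) = M.z) := fun {x} =>
    (QuotientGroup.eq_one_iff x).trans ⟨hZ x, hZ'⟩
  let P1 : Sylow 2 H1 := ⟨M.T1.subgroupOf H1,
    (M.T.isPGroup'.to_le M.T1_le).comap_of_injective _ Subtype.val_injective,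
    fun {R} hR hle => le_antisymm (fun x hx => mem_subgroupOf.2 (hmax _ (map_subtype_le R)
      (hR.map H1.subtype) (fun s hs => ⟨⟨s, hT1H hs⟩, hle (mem_subgroupOf.2 hs), rfl⟩) ⟨x, hx, rfl⟩)) hle⟩
  let TY : Sylow 2 (H1 ⧸ Z) := P1.mapSurjective (QuotientGroup.mk'_surjective Z)
  set U : Subgroup (H1 ⧸ Z) := (M.T1.subgroupOf H1).map π with hU
  have hTY : (TY : Subgroup (H1 ⧸ Z)) = U := rfl
  have hUmem : ∀ {x : H1}, π x ∈ U → (x : G) ∈ M.T1 := by
    rintro x ⟨x', hx', e⟩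
    have h := hπ1.1 (show π (x'⁻¹ * x) = 1 by rw [map_mul, map_inv, e, inv_mul_cancel])
    have hmem : ((x'⁻¹ * x : H1) : G) ∈ M.T1 := by
      rcases h with h | h <;> rw [h]
      · exact one_mem _
      · exact M.z_mem_T1
    simpa using mul_mem (mem_subgroupOf.1 hx') hmem
  have hsq : ∀ a ∈ U, a * a = 1 := by
    rintro _ ⟨x, hx, rfl⟩
    rw [← map_mul]
    exact hπ1.2 (M.sq_T1 (mem_subgroupOf.1 hx))
  have hcomm : ∀ a ∈ U, ∀ b ∈ U, a * b = b * a := fun a ha b hb => by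
    have h := hsq _ (mul_mem ha hb)
    rw [mul_eq_one_iff_eq_inv, mul_inv_rev, inv_eq_of_mul_eq_one_right (hsq a ha),
      inv_eq_of_mul_eq_one_right (hsq b hb)] at h
    exact h
  have h8 : 8 ≤ Nat.card U := by
    let g : Fin 4 × Bool → U := fun q => ⟨π ⟨M.tau q.1 * M.w (if q.2 then ev 0 + ev 1 else 0),
      hT1H (mul_mem (M.tau_mem_T1 _) (M.w_mem_T1 (by split; exacts [even4_e01, even4_zero])))⟩,
      ⟨_, mem_subgroupOf.2 (mul_mem (M.tau_mem_T1 _) (M.w_mem_T1 (by split; exacts [even4_e01, even4_zero]))), rfl⟩⟩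
    have hg : Function.Injective g := by
      rintro ⟨i, a⟩ ⟨j, b⟩ e
      have e' := Subtype.ext_iff.1 e
      simp only [g] at e'
      rw [← inv_mul_eq_one, ← map_inv, ← map_mul] at e'
      have h := hπ1.1 e'
      simp only [Subgroup.coe_mul, InvMemClass.coe_inv] at h
      set va : V5 := if a then ev 0 + ev 1 else 0
      set vb : V5 := if b then ev 0 + ev 1 else 0
      have hp : M.p ((M.tau i * M.w va)⁻¹ * (M.tau j * M.w vb)) = 1 := by
        rcases h with h | h <;> rw [h]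
        · exact M.p_one
        · exact M.p_w _
      have hiN := mul_mem (M.T_norm (M.tau_mem i)) (M.w_memN va)
      have hjN := mul_mem (M.T_norm (M.tau_mem j)) (M.w_memN vb)
      rw [M.p_mul _ (inv_mem hiN) _ hjN, M.p_inv hiN, M.p_mul _ (M.T_norm (M.tau_mem i)) _ (M.w_memN va),
        M.p_mul _ (M.T_norm (M.tau_mem j)) _ (M.w_memN vb), M.p_w, M.p_w, mul_one, mul_one, M.tau_p,
        M.tau_p, inv_mul_eq_one] at hp
      have hij := kl_inj i j hp
      subst hij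
      rw [mul_inv_rev, mul_assoc, ← mul_assoc (M.tau i)⁻¹, inv_mul_cancel, one_mul, M.w_inv,
        ← M.w_add, M.w_one, M.w_eq] at h
      have hl : Low (va + vb) := by
        rcases h with h | h
        exacts [(low_eqv _ _ h).2 low_zero, (low_eqv _ _ h).2 low_four]
      exact Prod.ext rfl (pair_inj a b hl)
    have := Nat.card_le_card_of_injective g hg
    rwa [Nat.card_prod, Nat.card_fin, Nat.card_eq_fintype_card, Fintype.card_bool] at this
  -- centralizers in the quotient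
  have hcompl : ∀ u ∈ U, u ≠ 1 →
      ∃ O, IsCompl2 (centralizer ({u} : Set (H1 ⧸ Z))) U O := by
    intro u hu hu1
    refine exists_compl_of_abelian (fun s hs => mem_centralizer_singleton_iff.2 (hcomm s hs u hu))
      (hTY ▸ TY.isPGroup') (fun R _ hR hUR => ?_) ?_
    · exact (TY.is_maximal' hR (hTY ▸ hUR)).le.trans (le_of_eq hTY)
    intro n hn hnU s hs
    obtain ⟨x, rfl⟩ := QuotientGroup.mk'_surjective Z n
    obtain ⟨a, m, hm, he⟩ := Nat.exists_eq_two_pow_mul_odd (orderOf_pos x).ne'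
    have hnN : π x ∈ normalizer (U : Set (H1 ⧸ Z)) := mem_normalizer_iff.2 hnU
    have h2 : π x ^ m ∈ U := by
      have hp : IsPGroup 2 (U ⊔ zpowers (π x ^ m) : Subgroup (H1 ⧸ Z)) := by
        refine IsPGroup.to_sup_of_normal_left' (hTY ▸ TY.isPGroup') ?_ (zpowers_le.2 (pow_mem hnN m))
        rintro ⟨_, k, rfl⟩
        refine ⟨a, Subtype.ext ?_⟩
        show ((π x ^ m) ^ k) ^ 2 ^ a = 1
        rw [← zpow_natCast ((π x ^ m) ^ k), ← zpow_mul, mul_comm k, zpow_mul, zpow_natCast, ← pow_mul,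
          mul_comm m, ← he, ← map_pow, pow_orderOf_eq_one, map_one, one_zpow]
      have := TY.is_maximal' hp (hTY ▸ le_sup_left)
      rw [← hTY, ← this]
      exact mem_sup_right (mem_zpowers _)
    set x1 := x ^ 2 ^ a with hx1
    have hx1o : Odd (orderOf (x1 : G)) := by
      rw [Subgroup.orderOf_coe, hx1, orderOf_pow, Nat.gcd_eq_right (Dvd.intro m he.symm), he,
        Nat.mul_div_cancel_left _ (by positivity)]
      exact hm
    have hx1N : π x1 ∈ normalizer (U : Set (H1 ⧸ Z)) := by rw [hx1, map_pow]; exact pow_mem hnN _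
    have hx1T : ∀ t ∈ M.T1, (x1 : G) * t * (x1 : G)⁻¹ ∈ M.T1 := fun t ht => by
      have := (mem_normalizer_iff.1 hx1N (π ⟨t, hT1H ht⟩)).1 ⟨_, mem_subgroupOf.2 ht, rfl⟩
      rw [← map_inv, ← map_mul, ← map_mul] at this
      exact hUmem this
    obtain ⟨u', hu', rfl⟩ := hu
    have hcx : π x * π u' = π u' * π x := mem_centralizer_singleton_iff.1 hn
    have hfix : (x1 : G) * u' * (x1 : G)⁻¹ = u' ∨ (x1 : G) * u' * (x1 : G)⁻¹ = u' * M.z := by
      have h : π (u'⁻¹ * (x1 * u' * x1⁻¹)) = 1 := by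
        have hc : Commute (π x1) (π u') := by rw [hx1, map_pow]; exact Commute.pow_left hcx _
        rw [map_mul, map_mul, map_mul, map_inv, map_inv, hc.eq, mul_inv_cancel_right, inv_mul_cancel]
      rcases hπ1.1 h with h | h <;> simp only [Subgroup.coe_mul, InvMemClass.coe_inv] at h
      · exact Or.inl (inv_mul_eq_one.1 h).symm
      · exact Or.inr (by rw [← h, mul_inv_cancel_left])
    have hne : (u' : G) ≠ 1 ∧ (u' : G) ≠ M.z :=
      ⟨fun h => hu1 (hπ1.2 (Or.inl h)), fun h => hu1 (hπ1.2 (Or.inr h))⟩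
    have hcent := M.commute_T1 (n := (x1 : G)) (mem_centralizer_singleton_iff.1 (hH1 x1.2)) hx1o hx1T
      (mem_subgroupOf.1 hu') hne.1 hne.2 hfix
    obtain ⟨s', hs', rfl⟩ := hs
    have e1 : Commute (π x ^ 2 ^ a) (π s') := by
      rw [← map_pow, Commute, SemiconjBy, ← map_mul, ← map_mul]
      exact congrArg π (Subtype.ext (hcent _ (mem_subgroupOf.1 hs')))
    have e2 : Commute (π x ^ m) (π s') := hcomm _ h2 _ ⟨s', hs', rfl⟩
    have hg := (Nat.coprime_two_left.2 hm).pow_left a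
    have e3 := (e1.zpow_left (Nat.gcdA (2 ^ a) m)).mul_left (e2.zpow_left (Nat.gcdB (2 ^ a) m))
    rw [← zpow_natCast (π x) (2 ^ a), ← zpow_natCast (π x) m, ← zpow_mul, ← zpow_mul, ← zpow_add,
      ← Nat.gcd_eq_gcd_ab, hg, Nat.cast_one, zpow_one] at e3
    exact e3
  have hC : ∀ u ∈ U, u ≠ 1 → ∀ y : H1 ⧸ Z, y * u = u * y →
      ∃ r ∈ coreC u, ∃ n ∈ normalizer (U : Set (H1 ⧸ Z)), y = r * n := by
    intro u hu hu1 y hy
    obtain ⟨O, hO⟩ := hcompl u hu hu1
    obtain ⟨o, ho, q, hq, e⟩ := hO.decomp y (mem_centralizer_singleton_iff.2 hy)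
    exact ⟨o, le_coreC hO.le hO.odd (fun g hg n hn => hO.conj g (mem_centralizer_singleton_iff.2 hg) n hn) ho,
      q, le_normalizer hq, e⟩
  have htwo : ∃ u ∈ U, ∃ v ∈ U, u ≠ 1 ∧ v ≠ 1 ∧ ¬ IsConj u v := by
    have hb : M.w (ev 0 + ev 1) ∈ M.T1 := M.w_mem_T1 even4_e01
    have ht : M.tau 1 ∈ M.T1 := M.tau_mem_T1 1
    refine ⟨_, ⟨⟨_, hT1H hb⟩, mem_subgroupOf.2 hb, rfl⟩, _, ⟨⟨_, hT1H ht⟩, mem_subgroupOf.2 ht, rfl⟩,
      fun h => ?_, fun h => ?_, fun h => ?_⟩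
    · rcases hπ1.1 h with h | h
      · exact absurd ((M.w_one _).1 h) not_eqv_e01_zero
      · exact absurd (M.w_eq.1 h) not_eqv_e01_four
    · rcases hπ1.1 h with h | h
      · exact M.tau_notMem (i := 1) (by decide) ((show M.tau 1 = 1 from h) ▸ one_mem _)
      · exact M.tau_notMem (i := 1) (by decide) ((show M.tau 1 = M.z from h) ▸ M.w_mem _)
    · obtain ⟨c, hc⟩ := isConj_iff.1 h
      obtain ⟨c, rfl⟩ := QuotientGroup.mk'_surjective Z c
      rw [← map_inv, ← map_mul, ← map_mul, ← mul_inv_eq_one, ← map_inv, ← map_mul] at hc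
      have h1 := hπ1.1 hc
      simp only [Subgroup.coe_mul, InvMemClass.coe_inv] at h1
      have h2 : (c : G) * M.w (ev 0 + ev 1) * (c : G)⁻¹ ∈ (M.T : Subgroup G) := by
        rcases h1 with h1 | h1
        · rw [mul_inv_eq_one.1 h1]; exact M.tau_mem 1
        · rw [mul_inv_eq_iff_eq_mul.1 h1]; exact mul_mem (M.le_T (M.w_mem _)) (M.tau_mem 1)
      have h3 := M.closed _ (M.w_mem _) _ h2
      refine M.tau_notMem (i := 1) (by decide) ?_
      rcases h1 with h1 | h1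
      · rwa [mul_inv_eq_one.1 h1] at h3
      · rw [mul_inv_eq_iff_eq_mul.1 h1] at h3
        simpa using mul_mem (inv_mem (M.w_mem (ev 4))) h3
  have hcrit := criterion TY U hTY.ge hcomm hsq h8 (fun t ht _ => hTY.le ht)
    (fun u _ g hg => hTY.le hg) hC htwo
  -- back to `C(z)`
  have hodd_core : ∀ x : H1, π x ∈ Cfsg.oddCore (H1 ⧸ Z) → ∃ o : H1, (o : G) ∈ coreC M.z ∧ π o = π x := by
    intro x hx
    obtain ⟨O, hO⟩ := exists_compl_of_abelian (C := (Cfsg.oddCore (H1 ⧸ Z)).comap π) (S := Z)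
      (fun a ha => by rw [mem_comap, (QuotientGroup.eq_one_iff a).2 ha |> fun h => (show π a = 1 from h)]; exact one_mem _)
      (P1.isPGroup'.to_le (fun a ha => mem_subgroupOf.2 (by
        rcases hZ a ha with h | h <;> rw [h]
        exacts [one_mem _, M.z_mem_T1])))
      (fun R hRC hR _ a ha => by
        obtain ⟨k, hk⟩ := hR ⟨a, ha⟩
        refine (QuotientGroup.eq_one_iff a).1 (eq_one_of_two_pow (k := k) ?_
          (odd_orderOf_of_mem CfsgLib.Inv54.odd_card_oddCore (hRC ha)))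
        show π a ^ 2 ^ k = 1
        rw [← map_pow, show a ^ 2 ^ k = 1 from congrArg Subtype.val hk, map_one])
      (fun g _ _ s hs => by
        obtain ⟨k, rfl⟩ := mem_zpowers_iff.1 hs
        exact ((show Commute zX g from hzc g).zpow_left k).symm.eq)
    haveI : O.Normal := ⟨fun o ho g => hO.mem_of_odd _
      ((inferInstance : ((Cfsg.oddCore (H1 ⧸ Z)).comap π).Normal).conj_mem o (hO.le ho) g)
      (by rw [Small.orderOf_conj_eq]; exact odd_orderOf_of_mem hO.odd ho)⟩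
    obtain ⟨o, ho, q, hq, e⟩ := hO.decomp x hx
    refine ⟨o, ?_, by rw [e, map_mul, show π q = 1 from (QuotientGroup.eq_one_iff q).2 hq, mul_one]⟩
    have hoX : o ∈ Cfsg.oddCore H1 := CfsgLib.PLocal.le_pPrimeCore (Nat.coprime_two_right.2 hO.odd) ho
    refine le_coreC (N := (Cfsg.oddCore H1).map H1.subtype) ((map_subtype_le _).trans hH1) ?_ ?_ ⟨o, hoX, rfl⟩
    · rw [← Nat.card_congr ((Cfsg.oddCore H1).equivMapOfInjective _ H1.subtype_injective).toEquiv]
      exact CfsgLib.Inv54.odd_card_oddCore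
    · rintro g hg _ ⟨b, hb, rfl⟩
      have hg' : g ∈ centralizer ({M.z} : Set G) := mem_centralizer_singleton_iff.2 hg
      let e : H1 ≃* H1 :=
        { toFun := fun a => ⟨g * a * g⁻¹, hconj g hg' a a.2⟩
          invFun := fun a => ⟨g⁻¹ * a * g, by simpa using hconj g⁻¹ (inv_mem hg') a a.2⟩
          left_inv := fun a => Subtype.ext (show g⁻¹ * (g * (a : G) * g⁻¹) * g = a by group)
          right_inv := fun a => Subtype.ext (show g * (g⁻¹ * (a : G) * g) * g⁻¹ = a by group)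
          map_mul' := fun a b => Subtype.ext (show g * ((a : G) * b) * g⁻¹ = g * a * g⁻¹ * (g * b * g⁻¹) by group) }
      exact ⟨e b, (CfsgLib.PLocal.map_pPrimeCore_equiv e).le ⟨b, hb, rfl⟩, rfl⟩
  intro y hyH
  obtain ⟨r, hr, n, hn, e⟩ := hcrit.2.2 (π ⟨y, hyH⟩)
  obtain ⟨r', rfl⟩ := QuotientGroup.mk'_surjective Z r
  obtain ⟨o, ho, hor⟩ := hodd_core r' hr
  set y2 : H1 := o⁻¹ * ⟨y, hyH⟩ with hy2
  have hy2n : π y2 ∈ normalizer (U : Set (H1 ⧸ Z)) := by
    rw [hy2, map_mul, map_inv, hor, e, inv_mul_cancel_left]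
    exact hn
  have hbT : (y2 : G) * M.w (ev 0 + ev 1) * (y2 : G)⁻¹ ∈ M.T1 := by
    have hb : M.w (ev 0 + ev 1) ∈ M.T1 := M.w_mem_T1 even4_e01
    have := (mem_normalizer_iff.1 hy2n (π ⟨_, hT1H hb⟩)).1 ⟨_, mem_subgroupOf.2 hb, rfl⟩
    rw [← map_inv, ← map_mul, ← map_mul] at this
    exact hUmem this
  obtain ⟨g, hg, hgN, hge⟩ := exists_fusion M.T M.le_T M.closed (fun a ha b hb => M.comm_A ha hb) hAH
    (hH1 y2.2) (M.w_mem (ev 0 + ev 1)) (M.closed _ (M.w_mem _) _ (M.T1_le hbT))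
  have hk : g⁻¹ * (y2 : G) ∈ M.Cpair (ev 0 + ev 1) := by
    refine M.mem_Cpair.2 ⟨mem_centralizer_singleton_iff.1 (mul_mem (inv_mem hg) (hH1 y2.2)), ?_⟩
    have e' := mul_inv_eq_iff_eq_mul.1 hge.symm
    calc g⁻¹ * (y2 : G) * M.w (ev 0 + ev 1) = g⁻¹ * ((y2 : G) * M.w (ev 0 + ev 1)) := mul_assoc _ _ _
      _ = M.w (ev 0 + ev 1) * (g⁻¹ * (y2 : G)) := by rw [e']; group
  obtain ⟨O, hO⟩ := M.exists_compl_pair (v := ev 0 + ev 1) even4_e01 not_low_e01
  obtain ⟨ob, hob, q, hq, ek⟩ := hO.decomp _ hk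
  have hobc : ob ∈ coreC M.z := by
    have hodd := odd_orderOf_of_mem hO.odd hob
    have hc := M.mem_Cpair.1 (hO.le hob)
    have hobH := hoddH ob (mem_centralizer_singleton_iff.2 hc.1) hodd
    have hb : M.w (ev 0 + ev 1) ∈ M.T1 := M.w_mem_T1 even4_e01
    have hbU : π ⟨_, hT1H hb⟩ ∈ U := ⟨_, mem_subgroupOf.2 hb, rfl⟩
    have hb1 : π ⟨_, hT1H hb⟩ ≠ 1 := fun h => by
      rcases hπ1.1 h with h | h
      · exact absurd ((M.w_one _).1 h) not_eqv_e01_zero
      · exact absurd (M.w_eq.1 h) not_eqv_e01_four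
    obtain ⟨O', hO'⟩ := hcompl _ hbU hb1
    have hmem : π ⟨ob, hobH⟩ ∈ Cfsg.oddCore (H1 ⧸ Z) := by
      refine hcrit.1 _ hbU hb1 _ (le_coreC hO'.le hO'.odd
        (fun g hg n hn => hO'.conj g (mem_centralizer_singleton_iff.2 hg) n hn) (hO'.mem_of_odd _ ?_ ?_))
      · rw [mem_centralizer_singleton_iff, ← map_mul, ← map_mul]
        exact congrArg π (Subtype.ext hc.2)
      · exact Odd.of_dvd_nat (by rw [Subgroup.orderOf_mk]; exact hodd) (orderOf_map_dvd π (⟨ob, hobH⟩ : H1))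
    obtain ⟨o', ho', he'⟩ := hodd_core _ hmem
    rcases hπ1.1 (show π (o'⁻¹ * ⟨ob, hobH⟩) = 1 by rw [map_mul, map_inv, he', inv_mul_cancel]) with h | h <;>
      simp only [Subgroup.coe_mul, InvMemClass.coe_inv] at h
    · rwa [← inv_mul_eq_one.1 h]
    · exfalso
      -- an involution would be a product of two commuting elements of odd order
      have hob_eq : ob = (o' : G) * M.z := by rw [← h, mul_inv_cancel_left]
      have hco : Commute (o' : G) M.z := mem_centralizer_singleton_iff.1 (coreC_le _ ho')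
      have hm : Odd (orderOf (o' : G) * orderOf ob) := (odd_orderOf_of_mem (odd_coreC _) ho').mul hodd
      have h1 : ob ^ (orderOf (o' : G) * orderOf ob) = 1 := by rw [mul_comm, pow_mul, pow_orderOf_eq_one, one_pow]
      have h2 : (o' : G) ^ (orderOf (o' : G) * orderOf ob) = 1 := by rw [pow_mul, pow_orderOf_eq_one, one_pow]
      obtain ⟨j, hj⟩ := hm
      rw [hj] at h1 h2
      rw [hob_eq, hco.mul_pow, h2, one_mul, pow_succ, pow_mul, sq, M.w_sq, one_pow, one_mul, M.w_one] at h1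
      exact not_eqv_four_zero h1
  refine ⟨(o : G) * (g * ob * g⁻¹), mul_mem ho (conj_mem_coreC (mem_centralizer_singleton_iff.1 hg) hobc),
    g * q, mul_mem hgN (M.T_norm (mem_inf.1 hq).1), ?_⟩
  calc y = (o : G) * (g * (g⁻¹ * (y2 : G))) := by
        rw [mul_inv_cancel_left, hy2]; simp [Subgroup.coe_mul]
    _ = _ := by rw [ek]; group

end CfsgLib.A8Three
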