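import Mathlib.GroupTheory.Perm.Sign
import Mathlib.GroupTheory.Perm.Fin
import Mathlib.Data.ZMod.Basic
import Mathlib.Tactic

/-!
# Combinatorics of the module of `A₅` on five points modulo the constants
-/

set_option autoImplicit false
set_option maxRecDepth 100000

namespace CfsgLib.A8Three

/-- Vectors indexed by five points. -/
abbrev V5 := Fin 5 → ZMod 2

/-- Equality modulo the constant vectors. -/
abbrev Eqv (u v : V5) : Prop := u + v = 0 ∨ u + v = 1

/-- Even weight on the first four points. -/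
abbrev Even4 (v : V5) : Prop := v 0 + v 1 + v 2 + v 3 = 0

/-- Constant on the first four points. -/
abbrev Low (v : V5) : Prop := v 0 = v 1 ∧ v 1 = v 2 ∧ v 2 = v 3

/-- Unit vectors. -/
abbrev ev (i : Fin 5) : V5 := fun j => if j = i then 1 else 0

/-- The action of permutations on vectors. -/
abbrev act (π : Equiv.Perm (Fin 5)) (v : V5) : V5 := fun i => v (π.symm i)

/-- The four group fixing the last point. -/
abbrev kl (i : Fin 4) : Equiv.Perm (Fin 5) :=
  ![1, Equiv.swap 0 1 * Equiv.swap 2 3, Equiv.swap 0 2 * Equiv.swap 1 3,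
    Equiv.swap 0 3 * Equiv.swap 1 2] i

theorem kl_cases : ∀ π : Equiv.Perm (Fin 5), Equiv.Perm.sign π = 1 → π 4 = 4 →
    π * π * π = 1 ∨ ∃ i, π = kl i := by decide +kernel

theorem kl_spec : ∀ i, Equiv.Perm.sign (kl i) = 1 ∧ kl i 4 = 4 ∧ kl i * kl i = 1 ∧
    (kl i = 1 → i = 0) := by decide +kernel

theorem kl_mul : ∀ i j, ∃ l, kl i * kl j = kl l := by decide +kernel

theorem kl_comm : ∀ i j, kl i * kl j = kl j * kl i := by decide +kernel

theorem kl_inj : ∀ i j, kl i = kl j → i = j := by decide +kernel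

theorem even4_iff_low : ∀ i, i ≠ 0 → ∀ v : V5, Low (act (kl i) v + v) ↔ Even4 v := by decide +kernel

theorem low_act_add : ∀ i, ∀ v : V5, Even4 v → Low (act (kl i) v + v) := by decide +kernel

theorem even4_act : ∀ i, ∀ v : V5, Even4 v → Even4 (act (kl i) v) := by decide +kernel

theorem low_of_fixed_two : ∀ i, ∀ j, i ≠ 0 → j ≠ 0 → i ≠ j → ∀ v : V5, Eqv (act (kl i) v) v →
    Eqv (act (kl j) v) v → Low v := by decide +kernel

theorem even4_of_fixed : ∀ i, i ≠ 0 → ∀ v : V5, Eqv (act (kl i) v) v → Even4 v := by decide +kernel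

set_option synthInstance.maxSize 2000 in
theorem low_add_of_fixed : ∀ i, i ≠ 0 → ∀ u : V5, Even4 u → ¬ Low u → Eqv (act (kl i) u) u →
    ∀ v : V5, Even4 v → ¬ Low v → Eqv (act (kl i) v) v → Low (u + v) := by decide +kernel

theorem exists_fixed : ∀ i, ∃ v : V5, Even4 v ∧ ¬ Low v ∧ Eqv (act (kl i) v) v := by decide +kernel

theorem exists_fixing : ∀ v : V5, Even4 v → ¬ Low v → ∃ i, i ≠ 0 ∧ Eqv (act (kl i) v) v ∧
    ∀ j, Eqv (act (kl j) v) v → j = 0 ∨ j = i := by decide +kernel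

theorem stab_zero_one : ∀ π : Equiv.Perm (Fin 5), Equiv.Perm.sign π = 1 →
    Eqv (act π (ev 0 + ev 1)) (ev 0 + ev 1) →
    Eqv (act π (ev 0)) (ev 0) ∨ (π * π = 1 ∧ π ≠ 1) := by decide +kernel

theorem low_cases : ∀ v : V5, Low v → Eqv v 0 ∨ Eqv v (ev 4) := by decide +kernel

theorem fix_four : ∀ π : Equiv.Perm (Fin 5), Eqv (act π (ev 4)) (ev 4) ↔ π 4 = 4 := by decide +kernel

theorem orbit_cases : ∀ v : V5, ¬ Eqv v 0 → ∃ π : Equiv.Perm (Fin 5), Equiv.Perm.sign π = 1 ∧
    (Eqv (act π v) (ev 4) ∨ Eqv (act π v) (ev 0 + ev 1)) := by decide +kernel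

theorem not_even4_of_fix_four : ∀ π : Equiv.Perm (Fin 5), π 4 = 4 → ¬ Even4 (act π (ev 0)) := by
  decide +kernel

theorem even4_eqv : ∀ u v : V5, Eqv u v → (Even4 u ↔ Even4 v) := by decide +kernel

theorem low_eqv : ∀ u v : V5, Eqv u v → (Low u ↔ Low v) := by decide +kernel

theorem even4_add : ∀ u v : V5, Even4 u → Even4 v → Even4 (u + v) := by decide +kernel

theorem low_even4 : ∀ v : V5, Low v → Even4 v := by decide +kernel

theorem even4_or : ∀ v : V5, Even4 v ∨ Even4 (v + ev 0) := by decide +kernel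

theorem conj_kl : ∀ π : Equiv.Perm (Fin 5), ∀ i, Equiv.Perm.sign π = 1 → i ≠ 0 → π * π = 1 → π ≠ 1 →
    ∃ σ : Equiv.Perm (Fin 5), Equiv.Perm.sign σ = 1 ∧ σ * π * σ⁻¹ = kl i := by decide +kernel

theorem add_self_vec : ∀ v : V5, v + v = 0 := by decide +kernel

end CfsgLib.A8Three

namespace CfsgLib.A8Three

theorem faithful : ∀ π : Equiv.Perm (Fin 5), (∀ i, Eqv (act π (ev i)) (ev i)) → π = 1 := by decide +kernel

set_option synthInstance.maxSize 2000 in
theorem stab_three : ∀ π : Equiv.Perm (Fin 5), π * π * π = 1 → π 4 = 4 → ∀ v : V5, Even4 v → ¬ Low v →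
    Eqv (act π v) v → π = 1 := by decide +kernel

theorem stab_three_pair : ∀ π : Equiv.Perm (Fin 5), π * π * π = 1 →
    Eqv (act π (ev 0 + ev 1)) (ev 0 + ev 1) → Eqv (act π (ev 0)) (ev 0) := by decide +kernel

set_option synthInstance.maxSize 2000 in
theorem stab_pair : ∀ i, i ≠ 0 → ∀ v : V5, Even4 v → ¬ Low v → Eqv (act (kl i) v) v →
    ∀ π : Equiv.Perm (Fin 5), Equiv.Perm.sign π = 1 → Eqv (act π v) v →
    π * π * π = 1 ∨ (π * π = 1 ∧ π ≠ 1 ∧ kl i * π * (kl i * π) * (kl i * π) = 1) := by decide +kernel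

end CfsgLib.A8Three

namespace CfsgLib.A8Three

theorem even4_act_fix : ∀ π : Equiv.Perm (Fin 5), π 4 = 4 → ∀ v : V5, Even4 v → Even4 (act π v) := by
  decide +kernel

theorem pair_inj : ∀ a b : Bool, Low ((if a then ev 0 + ev 1 else 0) + (if b then ev 0 + ev 1 else 0)) → a = b := by
  decide +kernel

end CfsgLib.A8Three

namespace CfsgLib.A8Three

theorem even4_zero : Even4 (0 : V5) := by decide

theorem even4_e01 : Even4 (ev 0 + ev 1) := by decide

theorem not_low_e01 : ¬ Low (ev 0 + ev 1) := by decide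

theorem not_eqv_e01_zero : ¬ Eqv (ev 0 + ev 1) 0 := by decide

theorem not_eqv_e01_four : ¬ Eqv (ev 0 + ev 1) (ev 4) := by decide

theorem low_four : Low (ev 4) := by decide

theorem low_zero : Low (0 : V5) := by decide

theorem not_eqv_four_zero : ¬ Eqv (ev 4) 0 := by decide

end CfsgLib.A8Three
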