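import Cfsg.Agent.S0217
import Cfsg.Agent.S0205
import Cfsg.Agent.Small.Dihedral
import Cfsg.Agent.PLocal.Cores
import Cfsg.Agent.Inv54.Core
import Mathlib.GroupTheory.Transfer
import Mathlib.GroupTheory.Sylow

/-!
# A strongly closed elementary abelian group with well-behaved centralizers

If every centralizer of a non-identity element of the strongly closed elementary abelian 2-group `U`
of rank at least three is the product of its odd core and its part normalizing `U`, and `U` meets two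
classes, then `U O(G)` is normal.
-/

set_option autoImplicit false
set_option linter.style.haveILetI false
set_option linter.unusedSectionVars false

namespace CfsgLib.A8Three

open Subgroup
open scoped Pointwise

variable {G : Type*} [Group G] [Finite G]

/-- `O(C(u))` as a subgroup of `G`. -/
def coreC (u : G) : Subgroup G :=
  (Cfsg.oddCore (centralizer ({u} : Set G))).map (centralizer ({u} : Set G)).subtype

theorem coreC_le (u : G) : coreC u ≤ centralizer ({u} : Set G) := map_subtype_le _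

theorem odd_coreC (u : G) : Odd (Nat.card (coreC u)) := by
  rw [coreC, ← Nat.card_congr ((Cfsg.oddCore (centralizer ({u} : Set G))).equivMapOfInjective
    (centralizer ({u} : Set G)).subtype Subtype.val_injective).toEquiv]
  exact CfsgLib.Inv54.odd_card_oddCore

theorem conj_mem_coreC {u y r : G} (hy : y * u = u * y) (hr : r ∈ coreC u) : y * r * y⁻¹ ∈ coreC u := by
  obtain ⟨r', hr', rfl⟩ := hr
  have hn : (Cfsg.oddCore (centralizer ({u} : Set G))).Normal := inferInstance
  exact ⟨_, hn.conj_mem r' hr' ⟨y, mem_centralizer_singleton_iff.2 hy⟩, rfl⟩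

theorem le_coreC {u : G} {N : Subgroup G} (hN : N ≤ centralizer ({u} : Set G)) (hodd : Odd (Nat.card N))
    (hinv : ∀ y, y * u = u * y → ∀ n ∈ N, y * n * y⁻¹ ∈ N) : N ≤ coreC u := by
  haveI : (N.subgroupOf (centralizer ({u} : Set G))).Normal :=
    ⟨fun n hn y => mem_subgroupOf.2 (hinv y (mem_centralizer_singleton_iff.1 y.2) n (mem_subgroupOf.1 hn))⟩
  intro n hn
  refine ⟨⟨n, hN hn⟩, CfsgLib.PLocal.le_pPrimeCore (N := N.subgroupOf _) (Nat.coprime_two_right.2 ?_)
    (mem_subgroupOf.2 hn), rfl⟩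
  rw [Nat.card_congr (subgroupOfEquivOfLe hN).toEquiv]
  exact hodd

theorem map_coreC (g u : G) {r : G} (hr : r ∈ coreC u) : g * r * g⁻¹ ∈ coreC (g * u * g⁻¹) := by
  refine le_coreC (N := (coreC u).map (MulAut.conj g).toMonoidHom) ?_ ?_ ?_ ⟨r, hr, rfl⟩
  · rintro _ ⟨s, hs, rfl⟩
    rw [mem_centralizer_singleton_iff]
    have h := mem_centralizer_singleton_iff.1 (coreC_le u hs)
    show g * s * g⁻¹ * (g * u * g⁻¹) = g * u * g⁻¹ * (g * s * g⁻¹)
    calc g * s * g⁻¹ * (g * u * g⁻¹) = g * (s * u) * g⁻¹ := by group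
      _ = g * (u * s) * g⁻¹ := by rw [h]
      _ = _ := by group
  · rw [← Nat.card_congr ((coreC u).equivMapOfInjective _ (MulAut.conj g).injective).toEquiv]
    exact odd_coreC u
  · rintro y hy _ ⟨s, hs, rfl⟩
    refine ⟨g⁻¹ * y * g * s * (g⁻¹ * y * g)⁻¹, conj_mem_coreC ?_ hs, ?_⟩
    · calc g⁻¹ * y * g * u = g⁻¹ * (y * (g * u * g⁻¹)) * g := by group
        _ = g⁻¹ * (g * u * g⁻¹ * y) * g := by rw [hy]
        _ = _ := by group
    · show g * (g⁻¹ * y * g * s * (g⁻¹ * y * g)⁻¹) * g⁻¹ = y * (g * s * g⁻¹) * y⁻¹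
      group

theorem eq_one_of_odd_sq {G : Type*} [Group G] {S : Subgroup G} (hS : Odd (Nat.card S))
    {x : G} (hx : x ∈ S) (h2 : x * x = 1) : x = 1 := by
  have h : x ^ Nat.gcd 2 (Nat.card S) = 1 :=
    pow_gcd_eq_one.2 ⟨by rw [sq, h2], congrArg Subtype.val (pow_card_eq_one' (x := (⟨x, hx⟩ : S)))⟩
  rwa [Nat.coprime_two_left.2 hS, pow_one] at h

/-- The central involution of the group generated by two non-conjugate involutions. -/
theorem exists_link {x z : G} (hx : orderOf x = 2) (hz : orderOf z = 2) (hne : ¬ IsConj x z) :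
    ∃ w : G, w * x = x * w ∧ w * z = z * w ∧ orderOf w = 2 ∧ (IsConj x (x * w) ∨ IsConj z (x * w)) := by
  have hx2 := Small.mul_self_of_orderOf_two hx
  have hinv := Small.invol_conj_mul hx hz
  have hxi := Small.inv_eq_self_of_orderOf_two hx
  have hzinv : z * (x * z) * z⁻¹ = (x * z)⁻¹ := by
    rw [Small.inv_eq_self_of_orderOf_two hz, mul_inv_rev, hxi, Small.inv_eq_self_of_orderOf_two hz]
    calc z * (x * z) * z = z * x * (z * z) := by group
      _ = z * x := by rw [Small.mul_self_of_orderOf_two hz, mul_one]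
  have hcl : ∀ i : ℕ, IsConj x (x * (x * z) ^ (2 * i)) := fun i => by
    refine isConj_iff.2 ⟨((x * z) ^ i)⁻¹, ?_⟩
    rw [inv_inv, ← Small.invol_conj_pow hinv i, hxi, two_mul, pow_add]
    calc x * (x * z) ^ i * x * x * (x * z) ^ i = x * (x * z) ^ i * (x * x) * (x * z) ^ i := by
          simp only [mul_assoc]
      _ = _ := by rw [hx2, mul_one, mul_assoc]
  have hcl' : ∀ i : ℕ, IsConj z (x * (x * z) ^ (2 * i + 1)) := fun i => by
    refine isConj_iff.2 ⟨((x * z) ^ i)⁻¹, ?_⟩
    rw [inv_inv, ← Small.invol_conj_pow hinv i, hxi]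
    calc x * (x * z) ^ i * x * z * (x * z) ^ i = x * ((x * z) ^ i * (x * z) * (x * z) ^ i) := by group
      _ = x * (x * z) ^ (2 * i + 1) := by rw [← pow_succ, ← pow_add]; congr 2; omega
  have heven : Even (orderOf (x * z)) := by
    rw [← Nat.not_odd_iff_even]
    rintro ⟨j, hj⟩
    refine hne ?_
    have h := (hcl (j + 1))
    rwa [show 2 * (j + 1) = orderOf (x * z) + 1 by omega, pow_succ, pow_orderOf_eq_one, one_mul,
      ← mul_assoc, hx2, one_mul] at h
  obtain ⟨j, hj⟩ := heven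
  set w := (x * z) ^ j with hw
  have hpos := orderOf_pos (x * z)
  have hwo : orderOf w = 2 := by
    rw [hw, orderOf_pow, Nat.gcd_eq_right ⟨2, by omega⟩]
    refine Nat.div_eq_of_eq_mul_left (by omega) (by omega)
  have hwi := Small.inv_eq_self_of_orderOf_two hwo
  refine ⟨w, ?_, ?_, hwo, ?_⟩
  · refine (mul_inv_eq_iff_eq_mul.1 ?_).symm
    rw [hw, Small.invol_conj_pow hinv, ← hw, hwi]
  · refine (mul_inv_eq_iff_eq_mul.1 ?_).symm
    rw [hw, Small.invol_conj_pow hzinv, ← hw, hwi]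
  · rcases Nat.even_or_odd j with ⟨i, hi⟩ | ⟨i, hi⟩
    · left; rw [hw, hi, ← two_mul]; exact hcl i
    · right; rw [hw, hi]; exact hcl' i

/-- The conclusion of the criterion. -/
theorem criterion (T : Sylow 2 G) (U : Subgroup G) (hUT : U ≤ T)
    (hcomm : ∀ a ∈ U, ∀ b ∈ U, a * b = b * a) (hsq : ∀ a ∈ U, a * a = 1) (h8 : 8 ≤ Nat.card U)
    (hTC : ∀ t ∈ (T : Subgroup G), (∀ u ∈ U, t * u = u * t) → t ∈ U)
    (hclosed : ∀ u ∈ U, ∀ g : G, g * u * g⁻¹ ∈ (T : Subgroup G) → g * u * g⁻¹ ∈ U)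
    (hC : ∀ u ∈ U, u ≠ 1 → ∀ y : G, y * u = u * y →
      ∃ r ∈ coreC u, ∃ n ∈ normalizer (U : Set G), y = r * n)
    (htwo : ∃ u ∈ U, ∃ v ∈ U, u ≠ 1 ∧ v ≠ 1 ∧ ¬ IsConj u v) :
    (∀ u ∈ U, u ≠ 1 → ∀ r ∈ coreC u, r ∈ Cfsg.oddCore G) ∧ (U ⊔ Cfsg.oddCore G).Normal ∧
      ∀ g : G, ∃ r ∈ Cfsg.oddCore G, ∃ n ∈ normalizer (U : Set G), g = r * n := by
  classical
  haveI : Fact (Nat.Prime 2) := ⟨Nat.prime_two⟩
  have hord : ∀ u ∈ U, u ≠ 1 → orderOf u = 2 := fun u hu hu1 => orderOf_eq_prime (by rw [sq, hsq u hu]) hu1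
  have hNmem : ∀ {n u : G}, n ∈ normalizer (U : Set G) → u ∈ U → n * u * n⁻¹ ∈ U := fun hn hu =>
    (mem_normalizer_iff.1 hn _).1 hu
  have hnorm_of : ∀ g : G, (∀ u ∈ U, g * u * g⁻¹ ∈ U) → g ∈ normalizer (U : Set G) := by
    intro g hg
    rw [mem_normalizer_iff_map_conj_eq]
    refine Subgroup.eq_of_le_of_card_ge ?_ (le_of_eq
      (Nat.card_congr (U.equivMapOfInjective _ (MulAut.conj g).injective).toEquiv))
    rintro _ ⟨x, hx, rfl⟩
    exact hg x hx
  -- the centralizer of `U`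
  set CU := centralizer (U : Set G) with hCU
  have hCUn : CU ≤ normalizer (U : Set G) := centralizer_le_normalizer _
  have hNCU : ∀ n ∈ normalizer (U : Set G), ∀ y ∈ CU, n * y * n⁻¹ ∈ CU := by
    intro n hn y hy
    rw [mem_centralizer_iff] at hy ⊢
    intro u hu
    have h := hy (n⁻¹ * u * n) ((mem_normalizer_iff''.1 hn u).1 hu)
    calc u * (n * y * n⁻¹) = n * (n⁻¹ * u * n * y) * n⁻¹ := by group
      _ = n * (y * (n⁻¹ * u * n)) * n⁻¹ := by rw [h]
      _ = _ := by group
  have hUC : U ≤ CU := fun u hu => mem_centralizer_iff.2 fun v hv => hcomm v hv u hu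
  -- `U` is a Sylow subgroup of its centralizer
  have hUp : IsPGroup 2 U := T.isPGroup'.to_le hUT
  have hmax : ∀ {P : Subgroup CU}, IsPGroup 2 P → U.subgroupOf CU ≤ P → P = U.subgroupOf CU := by
    intro P hP hle
    obtain ⟨g, hg⟩ : ∃ g : G, (P.map CU.subtype).map (MulAut.conj g).toMonoidHom ≤ T := by
      obtain ⟨S, hS⟩ := (hP.map CU.subtype).exists_le_sylow
      obtain ⟨g, hg⟩ := MulAction.exists_smul_eq G S T
      refine ⟨g, ?_⟩
      rintro _ ⟨x, hx, rfl⟩
      rw [← hg]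
      exact ⟨x, hS hx, rfl⟩
    have hgU : g ∈ normalizer (U : Set G) := hnorm_of g fun u hu => hclosed u hu g
      (hg ⟨u, ⟨⟨u, hUC hu⟩, hle (mem_subgroupOf.2 hu), rfl⟩, rfl⟩)
    refine le_antisymm (fun y hy => mem_subgroupOf.2 ?_) hle
    have hyT : g * (y : G) * g⁻¹ ∈ (T : Subgroup G) := hg ⟨_, ⟨y, hy, rfl⟩, rfl⟩
    have := hTC _ hyT fun u hu => (mem_centralizer_iff.1 (hNCU g hgU y y.2) u hu).symm
    have h' := (mem_normalizer_iff.1 hgU (y : G)).2 this
    exact h'
  let SU : Sylow 2 CU := ⟨U.subgroupOf CU, hUp.comap_of_injective _ Subtype.val_injective, hmax⟩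
  have hSU : normalizer ((SU : Subgroup CU) : Set CU) ≤ centralizer ((SU : Subgroup CU) : Set CU) := by
    intro y _
    rw [mem_centralizer_iff]
    exact fun u hu => Subtype.ext (mem_centralizer_iff.1 y.2 u (mem_subgroupOf.1 hu))
  have hcompl := MonoidHom.ker_transferSylow_isComplement' SU hSU
  set K0 := (MonoidHom.transferSylow SU hSU).ker with hK0
  have hK0odd : Odd (Nat.card K0) := by
    rw [← Nat.not_even_iff_odd, even_iff_two_dvd]
    exact MonoidHom.not_dvd_card_ker_transferSylow SU hSU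
  -- signalizers
  have hbal0 : ∀ v ∈ U, v ≠ 1 → ∀ X : Subgroup G, X ≤ centralizer ({v} : Set G) → Odd (Nat.card X) →
      (∀ u ∈ U, ∀ x ∈ X, u * x * u⁻¹ ∈ X) → X ≤ coreC v := by
    intro v hv hv1 X hX hXodd hXU x hx
    -- odd elements of `C(U) ∩ C(v)` lie in the core
    have hKv : ∀ k : G, k ∈ CU → Odd (orderOf k) → k ∈ coreC v := by
      intro k hk hko
      let L : Subgroup G := coreC v ⊔ (K0.map CU.subtype)
      have hK0C : K0.map CU.subtype ≤ centralizer ({v} : Set G) := by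
        rintro _ ⟨y, -, rfl⟩
        exact mem_centralizer_singleton_iff.2 ((mem_centralizer_iff.1 y.2 v hv).symm)
      have hnK : coreC v ⊔ K0.map CU.subtype ≤ centralizer ({v} : Set G) := sup_le (coreC_le v) hK0C
      have hKn : K0.map CU.subtype ≤ normalizer (coreC v : Set G) := fun y hy =>
        mem_normalizer_iff.2 fun z => ⟨conj_mem_coreC (mem_centralizer_singleton_iff.1 (hK0C hy)),
          fun h => by
            have := conj_mem_coreC (u := v) (y := y⁻¹)
              (Commute.inv_left (mem_centralizer_singleton_iff.1 (hK0C hy))) h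
            rwa [show y⁻¹ * (y * z * y⁻¹) * y⁻¹⁻¹ = z by group] at this⟩
      have hLodd : Odd (Nat.card L) := by
        rw [← Nat.not_even_iff_odd, even_iff_two_dvd]
        intro h2
        obtain ⟨t, ht⟩ := exists_prime_orderOf_dvd_card' 2 h2
        have htL : (t : G) ∈ ((coreC v : Set G) * (K0.map CU.subtype : Set G)) := by
          rw [← Subgroup.coe_mul_of_right_le_normalizer_left (coreC v) _ hKn]; exact t.2
        obtain ⟨a, ha, b, hb, hab⟩ := Set.mem_mul.1 htL
        have hodd := odd_coreC v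
        have hbodd : Odd (Nat.card (K0.map CU.subtype)) := by
          rw [← Nat.card_congr (K0.equivMapOfInjective _ CU.subtype_injective).toEquiv]; exact hK0odd
        have hbm : b ^ Nat.card (K0.map CU.subtype) = 1 := by
          exact congrArg Subtype.val (pow_card_eq_one' (x := (⟨b, hb⟩ : (K0.map CU.subtype : Subgroup G))))
        -- `t` to an odd power lies in the core
        have key : ∀ i : ℕ, ∃ a' ∈ coreC v, (a * b) ^ i = a' * b ^ i := by
          intro i
          induction i with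
          | zero => exact ⟨1, one_mem _, by simp⟩
          | succ i ih =>
            obtain ⟨a', ha', e⟩ := ih
            refine ⟨a' * (b ^ i * a * (b ^ i)⁻¹), mul_mem ha' ((mem_normalizer_iff.1 (hKn (pow_mem hb i)) a).1 ha), ?_⟩
            rw [pow_succ, e, pow_succ]; group
        obtain ⟨a', ha', e⟩ := key (Nat.card (K0.map CU.subtype))
        rw [hab, hbm, mul_one] at e
        have ht2 : (t : G) * t = 1 := by
          rw [← sq, ← Subgroup.coe_pow, ← ht, pow_orderOf_eq_one]; rfl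
        obtain ⟨i, hi⟩ := hbodd
        rw [hi, pow_succ, pow_mul, sq, ht2, one_pow, one_mul] at e
        have := eq_one_of_odd_sq hodd (e ▸ ha' : (t : G) ∈ coreC v) ht2
        rw [show t = 1 from Subtype.ext this, orderOf_one] at ht
        omega
      have hLle : L ≤ coreC v := by
        refine le_coreC hnK hLodd fun y hy n hn => ?_
        obtain ⟨r, hr, m, hm, rfl⟩ := hC v hv hv1 y hy
        have hrL : ∀ z ∈ L, r * z * r⁻¹ ∈ L := fun z hz =>
          mul_mem (mul_mem (mem_sup_left hr) hz) (inv_mem (mem_sup_left hr))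
        have hmv : m * v = v * m := by
          have h1 : r⁻¹ * (r * m) * v = v * (r⁻¹ * (r * m)) :=
            Commute.mul_left (Commute.inv_left (mem_centralizer_singleton_iff.1 (coreC_le v hr))) hy
          rwa [show r⁻¹ * (r * m) = m by group] at h1
        have hmL : L.map (MulAut.conj m).toMonoidHom ≤ L := by
          rw [Subgroup.map_sup]
          refine sup_le ?_ ?_
          · rintro _ ⟨z, hz, rfl⟩
            exact mem_sup_left (conj_mem_coreC hmv hz)
          · rintro _ ⟨_, ⟨z, hz, rfl⟩, rfl⟩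
            refine mem_sup_right ⟨⟨m * z * m⁻¹, hNCU m hm z z.2⟩, ?_, rfl⟩
            -- `K0` consists of the elements of odd order
            refine MonoidHom.mem_ker.2 ?_
            obtain ⟨e, he⟩ := IsPGroup.iff_card.1 SU.isPGroup'
            refine orderOf_eq_one_iff.1 (Nat.eq_one_of_dvd_coprimes (Nat.Coprime.pow_left e
              (Nat.coprime_two_left.2 hK0odd)) (he ▸ orderOf_dvd_natCard _) ?_)
            refine (orderOf_map_dvd _ _).trans ?_
            rw [← Subgroup.orderOf_coe]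
            show orderOf (m * (z : G) * m⁻¹) ∣ _
            rw [Small.orderOf_conj_eq, Subgroup.orderOf_coe]
            exact Subgroup.orderOf_dvd_natCard K0 hz
        rw [show r * m * n * (r * m)⁻¹ = r * (m * n * m⁻¹) * r⁻¹ by group]
        exact hrL _ (hmL ⟨n, hn, rfl⟩)
      refine hLle (mem_sup_right ⟨⟨k, hk⟩, ?_, rfl⟩)
      refine MonoidHom.mem_ker.2 (orderOf_eq_one_iff.1 ?_)
      obtain ⟨e, he⟩ := IsPGroup.iff_card.1 SU.isPGroup'
      refine Nat.eq_one_of_dvd_coprimes (Nat.Coprime.pow_left e (Nat.coprime_two_left.2 hko))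
        (he ▸ orderOf_dvd_natCard _) ((orderOf_map_dvd _ _).trans ?_)
      rw [← Subgroup.orderOf_coe]
    obtain ⟨r, hr, n, hn, hxrn⟩ := hC v hv hv1 x (mem_centralizer_singleton_iff.1 (hX hx))
    -- `n` centralizes `U`
    have hnC : n ∈ CU := by
      rw [mem_centralizer_iff]
      intro u hu
      have huv : u * v = v * u := hcomm u hu v hv
      have hu' : n * u * n⁻¹ ∈ U := hNmem hn hu
      set c := n * u * n⁻¹ * u with hc
      have hcU : c ∈ U := mul_mem hu' hu
      have hc2 := hsq c hcU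
      have hx' : u * x⁻¹ * u⁻¹ ∈ X := hXU u hu _ (inv_mem hx)
      have huu : u⁻¹ = u := inv_eq_of_mul_eq_one_left (hsq u hu)
      -- `x u x⁻¹ u = r c r₁⁻¹` lies in `X`
      have hcX : x * (u * x⁻¹ * u⁻¹) ∈ X := mul_mem hx hx'
      have hcu : c * v = v * c := hcomm c hcU v hv
      have e1 : x * (u * x⁻¹ * u⁻¹) = r * (c * (u⁻¹ * r⁻¹ * u) * c⁻¹) * c := by
        rw [hxrn, hc, huu]
        calc r * n * (u * (r * n)⁻¹ * u) = r * (n * u * n⁻¹) * r⁻¹ * u := by group
          _ = r * (n * u * n⁻¹) * (u * u) * r⁻¹ * u := by rw [hsq u hu]; group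
          _ = r * (n * u * n⁻¹ * u * (u * r⁻¹ * u) * (n * u * n⁻¹ * u)⁻¹) * (n * u * n⁻¹ * u) := by group
      set a := r * (c * (u⁻¹ * r⁻¹ * u) * c⁻¹) with ha
      have haC : a ∈ coreC v := by
        refine mul_mem hr (conj_mem_coreC hcu ?_)
        have := conj_mem_coreC (u := v) (y := u⁻¹) (Commute.inv_left huv) (inv_mem hr)
        rwa [inv_inv] at this
      -- an involution in an odd group
      have key : ∀ i : ℕ, ∃ a' ∈ coreC v, (a * c) ^ i = a' * c ^ i := by
        intro i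
        induction i with
        | zero => exact ⟨1, one_mem _, by simp⟩
        | succ i ih =>
          obtain ⟨a', ha', e⟩ := ih
          refine ⟨a' * (c ^ i * a * (c ^ i)⁻¹), mul_mem ha' (conj_mem_coreC (Commute.pow_left hcu i) haC), ?_⟩
          rw [pow_succ, e, pow_succ]; group
      obtain ⟨a', ha', e⟩ := key (Nat.card X)
      rw [← e1] at e
      have hp : (x * (u * x⁻¹ * u⁻¹)) ^ Nat.card X = 1 := by
        exact congrArg Subtype.val (pow_card_eq_one' (x := (⟨_, hcX⟩ : X)))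
      obtain ⟨i, hi⟩ := hXodd
      rw [hp, hi, pow_succ, pow_mul, sq, hc2, one_pow, one_mul] at e
      have hcc : c ∈ coreC v := by
        have : c = a'⁻¹ := eq_inv_of_mul_eq_one_right e.symm
        rw [this]; exact inv_mem ha'
      have hc1 := eq_one_of_odd_sq (odd_coreC v) hcc hc2
      rw [hc, mul_eq_one_iff_eq_inv, huu] at hc1
      exact (mul_inv_eq_iff_eq_mul.1 hc1).symm
    -- `n` has odd order modulo the core, hence lies in it
    obtain ⟨q, hq, hnq⟩ : ∃ q : ℕ, Odd q ∧ n ^ q ∈ coreC v := by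
      refine ⟨Nat.card X, hXodd, ?_⟩
      have key : ∀ i : ℕ, ∃ a' ∈ coreC v, (r * n) ^ i = a' * n ^ i := by
        intro i
        induction i with
        | zero => exact ⟨1, one_mem _, by simp⟩
        | succ i ih =>
          obtain ⟨a', ha', e⟩ := ih
          have hnv : n * v = v * n := (mem_centralizer_iff.1 hnC v hv).symm
          refine ⟨a' * (n ^ i * r * (n ^ i)⁻¹), mul_mem ha' (conj_mem_coreC (Commute.pow_left hnv i) hr), ?_⟩
          rw [pow_succ, e, pow_succ]; group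
      obtain ⟨a', ha', e⟩ := key (Nat.card X)
      have hp : x ^ Nat.card X = 1 := by
        exact congrArg Subtype.val (pow_card_eq_one' (x := (⟨x, hx⟩ : X)))
      rw [← hxrn, hp] at e
      rw [eq_inv_of_mul_eq_one_right e.symm]
      exact inv_mem ha'
    rw [hxrn]
    refine mul_mem hr ?_
    -- split off the 2-part
    obtain ⟨k, m, hm, he⟩ := Nat.exists_eq_two_pow_mul_odd (orderOf_pos n).ne'
    have hn2 : n ^ 2 ^ k ∈ coreC v := hKv _ (pow_mem hnC _) (by
      rw [orderOf_pow, Nat.gcd_eq_right (Dvd.intro m he.symm), he, Nat.mul_div_cancel_left _ (by positivity)]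
      exact hm)
    have hg := Nat.Coprime.pow_left k (Nat.coprime_two_left.2 hq)
    have hmem := Subgroup.mul_mem _ (zpow_mem hn2 (Nat.gcdA (2 ^ k) q)) (zpow_mem hnq (Nat.gcdB (2 ^ k) q))
    rwa [← zpow_natCast n (2 ^ k), ← zpow_natCast n q, ← zpow_mul, ← zpow_mul, ← zpow_add,
      ← Nat.gcd_eq_gcd_ab, hg, Nat.cast_one, zpow_one] at hmem
  -- the closure of the functor
  have hθinv : ∀ a ∈ U, a ≠ 1 → ∀ b ∈ U, ∀ x ∈ coreC a, b * x * b⁻¹ ∈ coreC a := fun a ha _ b hb x hx =>
    conj_mem_coreC (hcomm b hb a ha) hx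
  have hsft := Cfsg.Agent.S0217.result (p := 2) U hcomm (fun a ha => by rw [sq, hsq a ha]) (by omega)
    coreC (fun a _ _ => coreC_le a)
    (fun a _ _ => by rw [← even_iff_two_dvd, Nat.not_even_iff_odd]; exact odd_coreC a) hθinv
    (fun a _ _ => Cfsg.Agent.S0205.result (odd_coreC a))
    (fun a ha ha1 b hb hb1 => hbal0 b hb hb1 _ inf_le_right
      (Odd.of_dvd_nat (odd_coreC a) (Subgroup.card_dvd_of_le inf_le_left)) (fun u hu x hx =>
        mem_inf.2 ⟨hθinv a ha ha1 u hu x (mem_inf.1 hx).1, by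
          have h := mem_centralizer_singleton_iff.1 (mem_inf.1 hx).2
          have hub : Commute u b := hcomm u hu b hb
          exact mem_centralizer_singleton_iff.2
            (Commute.mul_left (Commute.mul_left hub h) (Commute.inv_left hub))⟩))
  set W := ⨆ b : {a : G // a ∈ U ∧ a ≠ 1}, coreC (b : G) with hW
  have hθW : ∀ u ∈ U, u ≠ 1 → coreC u ≤ W := fun u hu hu1 =>
    le_iSup (fun b : {a : G // a ∈ U ∧ a ≠ 1} => coreC (b : G)) ⟨u, hu, hu1⟩
  -- an involution of type `U` centralizing `z ∈ U`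
  have hin : ∀ z ∈ U, z ≠ 1 → ∀ w : G, w * z = z * w → orderOf w = 2 → (∃ f : G, f * w * f⁻¹ ∈ U) →
      ∃ r ∈ coreC z, ∃ u ∈ U, u ≠ 1 ∧ w = r * u * r⁻¹ := by
    intro z hz hz1 w hwz hwo hwU
    let C := centralizer ({z} : Set G)
    let N := normalizer (U : Set G) ⊓ C
    obtain ⟨P⟩ : Nonempty (Sylow 2 (N.subgroupOf C)) := inferInstance
    let P' : Subgroup C := (P : Subgroup (N.subgroupOf C)).map (N.subgroupOf C).subtype
    have hodd : ¬ 2 ∣ (N.subgroupOf C).index := by
      intro h2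
      have hdvd : (N.subgroupOf C).index ∣ Nat.card (coreC z) := by
        haveI : ((coreC z).subgroupOf C).Normal := ⟨fun x hx y => mem_subgroupOf.2
          (conj_mem_coreC (mem_centralizer_singleton_iff.1 y.2) (mem_subgroupOf.1 hx))⟩
        have htop : N.subgroupOf C ⊔ (coreC z).subgroupOf C = ⊤ := by
          refine eq_top_iff.2 fun y _ => ?_
          obtain ⟨r, hr, n, hn, e⟩ := hC z hz hz1 y (mem_centralizer_singleton_iff.1 y.2)
          have hnC : n ∈ C := by
            have := mul_mem (inv_mem (coreC_le z hr)) y.2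
            rwa [e, inv_mul_cancel_left] at this
          rw [show y = ⟨r, coreC_le z hr⟩ * ⟨n, hnC⟩ from Subtype.ext e]
          exact mul_mem (mem_sup_right (mem_subgroupOf.2 hr))
            (mem_sup_left (mem_subgroupOf.2 (mem_inf.2 ⟨hn, hnC⟩)))
        have h1 : (N.subgroupOf C).index = (N.subgroupOf C).relIndex ((coreC z).subgroupOf C) := by
          have e1 := relIndex_mul_index (inf_le_left : N.subgroupOf C ⊓ (coreC z).subgroupOf C ≤ _)
          have e2 := relIndex_mul_index (inf_le_right : N.subgroupOf C ⊓ (coreC z).subgroupOf C ≤ _)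
          have e3 : ((coreC z).subgroupOf C).relIndex (N.subgroupOf C) = ((coreC z).subgroupOf C).index := by
            rw [← relIndex_sup_right, htop, relIndex_top_right]
          rw [inf_relIndex_left, e3, ← e2, inf_relIndex_right, mul_comm] at e1
          exact Nat.eq_of_mul_eq_mul_right (Nat.pos_of_ne_zero FiniteIndex.index_ne_zero) e1
        rw [h1, ← Nat.card_congr (subgroupOfEquivOfLe (coreC_le z)).toEquiv]
        exact relIndex_dvd_card _ _
      exact (odd_coreC z).not_two_dvd_nat (h2.trans hdvd)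
    let S : Sylow 2 C := ((P.isPGroup').map (N.subgroupOf C).subtype).toSylow (by
      rw [index_map_subtype]
      exact Nat.Prime.not_dvd_mul Nat.prime_two P.not_dvd_index hodd)
    have hp : IsPGroup 2 (zpowers (⟨w, mem_centralizer_singleton_iff.2 hwz⟩ : C)) :=
      IsPGroup.of_card (n := 1) (by rw [Nat.card_zpowers, ← Subgroup.orderOf_coe, hwo, pow_one])
    obtain ⟨R, hR⟩ := hp.exists_le_sylow
    obtain ⟨c, hc⟩ := MulAction.exists_smul_eq C R S
    have hcw : (c : G) * w * (c : G)⁻¹ ∈ normalizer (U : Set G) := by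
      have h : c * (⟨w, mem_centralizer_singleton_iff.2 hwz⟩ : C) * c⁻¹ ∈ (S : Subgroup C) := by
        rw [← hc]; exact ⟨_, hR (mem_zpowers _), rfl⟩
      obtain ⟨m, -, em⟩ := h
      have hm : ((m : C) : G) ∈ normalizer (U : Set G) := (mem_inf.1 (mem_subgroupOf.1 m.2)).1
      have e := congrArg Subtype.val em
      simp only [Subgroup.coe_subtype] at e
      rw [e] at hm
      exact hm
    obtain ⟨r, hr, n, hn, hcrn⟩ := hC z hz hz1 (c : G)⁻¹
      (Commute.inv_left (mem_centralizer_singleton_iff.1 c.2))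
    set w₀ := n * ((c : G) * w * (c : G)⁻¹) * n⁻¹ with hw₀
    have hw₀N : w₀ ∈ normalizer (U : Set G) := mul_mem (mul_mem hn hcw) (inv_mem hn)
    have hw₀o : orderOf w₀ = 2 := by rw [hw₀, Small.orderOf_conj_eq, Small.orderOf_conj_eq, hwo]
    have hww : w = r * w₀ * r⁻¹ := by
      rw [hw₀, show r * (n * ((c : G) * w * (c : G)⁻¹) * n⁻¹) * r⁻¹ =
        (r * n) * ((c : G) * w * (c : G)⁻¹) * (r * n)⁻¹ by group, ← hcrn]
      group
    refine ⟨r, hr, w₀, ?_, Small.ne_one_of_orderOf_two hw₀o, hww⟩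
    have hp2 : IsPGroup 2 (U ⊔ zpowers w₀ : Subgroup G) :=
      hUp.to_sup_of_normal_left' (IsPGroup.of_card (n := 1) (by rw [Nat.card_zpowers, hw₀o, pow_one]))
        (zpowers_le.2 hw₀N)
    obtain ⟨S', hS'⟩ := hp2.exists_le_sylow
    obtain ⟨g, hg⟩ := MulAction.exists_smul_eq G S' T
    have hgT : ∀ y ∈ (S' : Subgroup G), g * y * g⁻¹ ∈ (T : Subgroup G) := fun y hy => by
      rw [← hg]; exact ⟨y, hy, rfl⟩
    have hgU : g ∈ normalizer (U : Set G) := hnorm_of g fun u hu => hclosed u hu g (hgT u (hS' (mem_sup_left hu)))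
    refine (mem_normalizer_iff.1 hgU w₀).2 ?_
    obtain ⟨f, hf⟩ := hwU
    have h := hclosed _ hf (g * r⁻¹ * f⁻¹)
    rw [show g * r⁻¹ * f⁻¹ * (f * w * f⁻¹) * (g * r⁻¹ * f⁻¹)⁻¹ = g * (r⁻¹ * w * r) * g⁻¹ by group,
      show r⁻¹ * w * r = w₀ by rw [hww]; group] at h
    exact h (hgT _ (hS' (mem_sup_right (mem_zpowers w₀))))
  obtain ⟨u₀, hu₀, v₀, hv₀, hu₀1, hv₀1, hncj⟩ := htwo
  -- every conjugate of an element of `U` is conjugate into `U` by `W`
  have hall : ∀ u ∈ U, u ≠ 1 → ∀ g : G, ∃ s ∈ W, ∃ u' ∈ U, u' ≠ 1 ∧ g * u * g⁻¹ = s * u' * s⁻¹ := by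
    intro u hu hu1 g
    set x := g * u * g⁻¹ with hx
    have hxo : orderOf x = 2 := by rw [hx, Small.orderOf_conj_eq, hord u hu hu1]
    obtain ⟨z, hz, hz1, hnz⟩ : ∃ z ∈ U, z ≠ 1 ∧ ¬ IsConj x z := by
      by_cases h : IsConj x u₀
      · exact ⟨v₀, hv₀, hv₀1, fun h' => hncj (h.symm.trans h')⟩
      · exact ⟨u₀, hu₀, hu₀1, h⟩
    obtain ⟨w, hwx, hwz, hwo, hcls⟩ := exists_link hxo (hord z hz hz1) hnz
    have hxU : ∃ f : G, f * x * f⁻¹ ∈ U := ⟨g⁻¹, by rw [hx]; group; simpa using hu⟩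
    -- `w` has type `U`
    have hwU : ∃ f : G, f * w * f⁻¹ ∈ U := by
      have hxwU : ∃ f : G, f * (x * w) * f⁻¹ ∈ U := by
        rcases hcls with h | h
        · obtain ⟨k, hk⟩ := isConj_iff.1 h
          obtain ⟨f, hf⟩ := hxU
          refine ⟨f * k⁻¹, ?_⟩
          rw [← hk, show f * k⁻¹ * (k * x * k⁻¹) * (f * k⁻¹)⁻¹ = f * x * f⁻¹ by group]
          exact hf
        · obtain ⟨k, hk⟩ := isConj_iff.1 h
          refine ⟨k⁻¹, ?_⟩
          rw [← hk, show k⁻¹ * (k * z * k⁻¹) * k⁻¹⁻¹ = z by group]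
          exact hz
      have hwx' : x * w = w * x := hwx.symm
      have hx2 := Small.mul_self_of_orderOf_two hxo
      have hxw2 : x * w * (x * w) = 1 := by
        calc x * w * (x * w) = x * (w * x) * w := by group
          _ = x * x * (w * w) := by rw [hwx]; group
          _ = 1 := by rw [hx2, Small.mul_self_of_orderOf_two hwo, one_mul]
      have hp : IsPGroup 2 (zpowers (x * w) ⊔ zpowers x : Subgroup G) := by
        have hzp : ∀ t : G, t * t = 1 → IsPGroup 2 (zpowers t) := fun t ht => by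
          rintro ⟨_, i, rfl⟩
          refine ⟨1, Subtype.ext ?_⟩
          show (t ^ i) ^ 2 ^ 1 = 1
          rw [pow_one, sq, ← zpow_add, ← two_mul, zpow_mul, zpow_two, ht, one_zpow]
        refine (hzp _ hxw2).to_sup_of_normal_left' (hzp _ hx2) (zpowers_le.2 ?_)
        refine centralizer_le_normalizer _ (mem_centralizer_iff.2 ?_)
        rintro _ ⟨i, rfl⟩
        exact ((Commute.mul_right (Commute.refl x) hwx').zpow_right i).eq.symm
      obtain ⟨S', hS'⟩ := hp.exists_le_sylow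
      obtain ⟨k, hk⟩ := MulAction.exists_smul_eq G S' T
      have hkT : ∀ y ∈ (S' : Subgroup G), k * y * k⁻¹ ∈ (T : Subgroup G) := fun y hy => by
        rw [← hk]; exact ⟨y, hy, rfl⟩
      have hmemU : ∀ y : G, (∃ f : G, f * y * f⁻¹ ∈ U) → y ∈ (S' : Subgroup G) → k * y * k⁻¹ ∈ U := by
        rintro y ⟨f, hf⟩ hy
        have h := hclosed _ hf (k * f⁻¹)
        rw [show k * f⁻¹ * (f * y * f⁻¹) * (k * f⁻¹)⁻¹ = k * y * k⁻¹ by group] at h
        exact h (hkT y hy)
      refine ⟨k, ?_⟩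
      have h1 := hmemU x hxU (hS' (mem_sup_right (mem_zpowers x)))
      have h2 := hmemU (x * w) hxwU (hS' (mem_sup_left (mem_zpowers _)))
      have := mul_mem (inv_mem h1) h2
      rwa [show (k * x * k⁻¹)⁻¹ * (k * (x * w) * k⁻¹) = k * w * k⁻¹ by group] at this
    obtain ⟨r, hr, u₁, hu₁, hu₁1, hwr⟩ := hin z hz hz1 w hwz hwo hwU
    obtain ⟨r₂, hr₂, u₂, hu₂, hu₂1, hxr⟩ := hin u₁ hu₁ hu₁1 (r⁻¹ * x * r) (by
        have e : r⁻¹ * w * r = u₁ := by rw [hwr]; group
        rw [← e]
        calc r⁻¹ * x * r * (r⁻¹ * w * r) = r⁻¹ * (x * w) * r := by group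
          _ = r⁻¹ * (w * x) * r := by rw [hwx]
          _ = _ := by group)
      (by
        have := Small.orderOf_conj_eq r⁻¹ x
        rw [inv_inv] at this
        rw [this, hxo])
      ⟨g⁻¹ * r, by rw [hx]; group; simpa using hu⟩
    refine ⟨r * r₂, mul_mem (hθW z hz hz1 hr) (hθW u₁ hu₁ hu₁1 hr₂), u₂, hu₂, hu₂1, ?_⟩
    calc x = r * (r⁻¹ * x * r) * r⁻¹ := by group
      _ = r * (r₂ * u₂ * r₂⁻¹) * r⁻¹ := by rw [hxr]
      _ = _ := by group
  -- `W` is normal
  have hWn : ∀ g : G, W.map (MulAut.conj g).toMonoidHom ≤ W := by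
    intro g
    rw [hW, Subgroup.map_iSup]
    refine iSup_le fun b => ?_
    obtain ⟨s, hs, u', hu', hu'1, e⟩ := hall b b.2.1 b.2.2 g
    rintro _ ⟨y, hy, rfl⟩
    show g * y * g⁻¹ ∈ W
    have h := map_coreC g b hy
    rw [e] at h
    have h' := map_coreC s⁻¹ _ h
    rw [show s⁻¹ * (s * u' * s⁻¹) * s⁻¹⁻¹ = u' by group] at h'
    have := mul_mem (mul_mem hs (hθW u' hu' hu'1 h')) (inv_mem hs)
    rwa [show s * (s⁻¹ * (g * y * g⁻¹) * s⁻¹⁻¹) * s⁻¹ = g * y * g⁻¹ by group] at this
  haveI hWnorm : W.Normal := ⟨fun y hy g => hWn g ⟨y, hy, rfl⟩⟩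
  have hWO : W ≤ Cfsg.oddCore G := CfsgLib.PLocal.le_pPrimeCore
    (CfsgLib.PLocal.not_dvd_iff_coprime.2 hsft.1)
  have hnormal : (U ⊔ Cfsg.oddCore G).Normal := by
    haveI : (Cfsg.oddCore G).Normal := inferInstance
    refine ⟨fun y hy g => ?_⟩
    have : (U ⊔ Cfsg.oddCore G).map (MulAut.conj g).toMonoidHom ≤ U ⊔ Cfsg.oddCore G := by
      rw [Subgroup.map_sup]
      refine sup_le ?_ ?_
      · rintro _ ⟨u, hu, rfl⟩
        show g * u * g⁻¹ ∈ _
        by_cases hu1 : u = 1
        · simp [hu1]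
        obtain ⟨s, hs, u', hu', -, e⟩ := hall u hu hu1 g
        rw [e]
        exact mul_mem (mul_mem (mem_sup_right (hWO hs)) (mem_sup_left hu')) (inv_mem (mem_sup_right (hWO hs)))
      · rintro _ ⟨u, hu, rfl⟩
        exact mem_sup_right (Subgroup.Normal.conj_mem ‹_› u hu g)
    exact this ⟨y, hy, rfl⟩
  refine ⟨fun u hu hu1 r hr => hWO (hθW u hu hu1 hr), hnormal, fun g => ?_⟩
  -- Frattini
  haveI := hnormal
  set X := U ⊔ Cfsg.oddCore G with hX
  have hUX : U ≤ X := le_sup_left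
  obtain ⟨R, hR⟩ := (hUp.comap_of_injective X.subtype Subtype.val_injective).exists_le_sylow
  have hR' : (R : Subgroup X) = U.subgroupOf X := by
    refine (Subgroup.eq_of_le_of_card_ge hR ?_).symm
    obtain ⟨k, hk⟩ := IsPGroup.iff_card.1 R.isPGroup'
    obtain ⟨l, hl⟩ := IsPGroup.iff_card.1 hUp
    show Nat.card (R : Subgroup X) ≤ Nat.card (Subgroup.subgroupOf U X)
    rw [show Nat.card (Subgroup.subgroupOf U X) = Nat.card U from
      Nat.card_congr (subgroupOfEquivOfLe hUX).toEquiv, hk, hl]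
    refine Nat.pow_le_pow_right two_pos ?_
    have hd : 2 ^ k ∣ Nat.card U * Nat.card (Cfsg.oddCore G) := by
      rw [← hk]
      refine (Subgroup.card_subgroup_dvd_card _).trans ?_
      rw [hX]
      haveI : (Cfsg.oddCore G).Normal := inferInstance
      rw [← relIndex_bot_left (U ⊔ Cfsg.oddCore G), ← relIndex_mul_relIndex ⊥ (Cfsg.oddCore G) _ bot_le le_sup_right,
        relIndex_sup_right, relIndex_bot_left, mul_comm (Nat.card U)]
      exact mul_dvd_mul_left _ (relIndex_dvd_card _ _)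
    rw [hl] at hd
    have hco : Nat.Coprime (2 ^ k) (Nat.card (Cfsg.oddCore G)) :=
      Nat.Coprime.pow_left k (Nat.coprime_two_left.2 CfsgLib.Inv54.odd_card_oddCore)
    exact (Nat.pow_dvd_pow_iff_le_right (by norm_num : 1 < 2)).1 (hco.dvd_of_dvd_mul_right hd)
  have hfr := Sylow.normalizer_sup_eq_top R
  rw [hR', Subgroup.map_subgroupOf_eq_of_le hUX, hX, ← sup_assoc,
    sup_eq_left.2 (show U ≤ normalizer (U : Set G) from le_normalizer)] at hfr
  have hg : g ∈ normalizer (U : Set G) ⊔ Cfsg.oddCore G := hfr ▸ mem_top g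
  have hg' : g ∈ ((Cfsg.oddCore G : Subgroup G) : Set G) * (normalizer (U : Set G) : Set G) := by
    rw [← Subgroup.coe_mul_of_right_le_normalizer_left _ _
      (le_top.trans (normalizer_eq_top_iff.2 inferInstance).ge), sup_comm]
    exact hg
  obtain ⟨r, hr, n, hn, e⟩ := Set.mem_mul.1 hg'
  exact ⟨r, hr, n, hn, e.symm⟩

end CfsgLib.A8Three
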