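import Cfsg.Agent.A8Three.Model

/-!
# The subgroup of index two in the centralizer of an element of `A` with Sylow subgroup `A<t>`
-/

set_option autoImplicit false
set_option linter.style.haveILetI false
set_option linter.unusedSectionVars false

namespace CfsgLib.A8Three

open Subgroup

variable {G : Type*} [Group G] [Finite G] (M : Model G)

theorem isPGroup_units : IsPGroup 2 ℤˣ :=
  IsPGroup.of_card (n := 1) (by rw [Nat.card_eq_fintype_card, Fintype.card_units_int, pow_one])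

theorem units_pow_odd (u : ℤˣ) {m : ℕ} (hm : Odd m) : u ^ m = u := by
  rw [Int.units_pow_eq_pow_mod_two, Nat.odd_iff.1 hm, pow_one]

theorem Model.exists_kernel (C : Subgroup G) {i : Fin 4} (hi : i ≠ 0) (hAC : M.A ≤ C)
    (ht : M.tau i ∈ C)
    (hstab : ∀ n ∈ C, n ∈ M.N → M.p n * M.p n * M.p n = 1 ∨
      (M.p n * M.p n = 1 ∧ M.p n ≠ 1 ∧ kl i * M.p n * (kl i * M.p n) * (kl i * M.p n) = 1)) :
    ∃ K : Subgroup G, K ≤ C ∧ M.A ≤ K ∧ (∀ y ∈ C, ∀ k ∈ K, y * k * y⁻¹ ∈ K) ∧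
      (∀ y ∈ C, y ∈ K ∨ y * (M.tau i)⁻¹ ∈ K) ∧ (∀ y ∈ C, Odd (orderOf y) → y ∈ K) ∧
      (∀ n ∈ K, n ∈ M.N → M.p n * M.p n * M.p n = 1) ∧
      ∀ R : Subgroup G, R ≤ K → IsPGroup 2 R → M.A ≤ R → R ≤ M.A := by
  classical
  haveI : Fact (Nat.Prime 2) := ⟨Nat.prime_two⟩
  set t := M.tau i with htd
  have htT : t ∈ (M.T : Subgroup G) := M.tau_mem i
  have htN : t ∈ M.N := M.T_norm htT
  have htA : t ∉ M.A := fun h => hi ((kl_spec i).2.2.2 ((M.tau_p i).symm.trans (M.p_mem_A h)))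
  let Q : Subgroup G := (M.T : Subgroup G) ⊓ C
  have hAQ : M.A ≤ Q := le_inf M.le_T hAC
  have htQ : t ∈ Q := mem_inf.2 ⟨htT, ht⟩
  have key : ∀ R : Subgroup G, R ≤ C → IsPGroup 2 R → M.A ≤ R → t ∈ R → ∀ x ∈ R,
      x ∈ M.A ∨ t * x ∈ M.A := by
    intro R hRC hR hAR htR x hx
    have hxN := M.mem_N_of_twoGroup hR hAR hx
    obtain ⟨k, hk⟩ := hR ⟨x, hx⟩
    rcases hstab x (hRC hx) hxN with h | ⟨-, -, h⟩
    · exact Or.inl (M.mem_A_of_cube hxN (congrArg Subtype.val hk) h)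
    · obtain ⟨l, hl⟩ := hR ⟨t * x, mul_mem htR hx⟩
      refine Or.inr (M.mem_A_of_cube (mul_mem htN hxN) (congrArg Subtype.val hl) ?_)
      rw [M.p_mul _ htN _ hxN, htd, M.tau_p]
      exact h
  let P : Sylow 2 C := ⟨Q.subgroupOf C,
    (M.T.isPGroup'.to_le inf_le_left).comap_of_injective _ Subtype.val_injective,
    fun {R} hR hle => le_antisymm (fun x hx => by
      refine mem_subgroupOf.2 (mem_inf.2 ⟨?_, x.2⟩)
      have hle' : Q ≤ R.map C.subtype := fun q hq => ⟨⟨q, (mem_inf.1 hq).2⟩, hle (mem_subgroupOf.2 hq), rfl⟩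
      rcases key _ (map_subtype_le R) (hR.map C.subtype) (hAQ.trans hle') (hle' htQ) x ⟨x, hx, rfl⟩ with h | h
      · exact M.le_T h
      · simpa using mul_mem (inv_mem htT) (M.le_T h)) hle⟩
  have hrel : (M.A.subgroupOf C).relIndex (P : Subgroup C) = 2 := by
    show (M.A.subgroupOf C).relIndex (Q.subgroupOf C) = 2
    rw [relIndex_subgroupOf (inf_le_right : Q ≤ C)]
    show (M.A.subgroupOf Q).index = 2
    rw [index_eq_two_iff]
    refine ⟨⟨t, htQ⟩, fun b => ?_⟩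
    have hb := key Q inf_le_right (M.T.isPGroup'.to_le inf_le_left) hAQ htQ b b.2
    simp only [mem_subgroupOf, Subgroup.coe_mul]
    rcases hb with h | h
    · exact Or.inr ⟨h, fun h' => htA (by simpa using mul_mem (inv_mem h) h')⟩
    · refine Or.inl ⟨?_, fun h' => htA (by simpa using mul_mem h (inv_mem h'))⟩
      have := (mem_normalizer_iff.1 htN _).1 h
      rwa [M.tau_inv, ← mul_assoc, M.tau_sq, one_mul] at this
  obtain ⟨f, hf1, hf2⟩ := exists_sign_hom P (M.A.subgroupOf C) hrel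
  have hfA : ∀ a : C, (a : G) ∈ M.A → f a = 1 := fun a ha =>
    hf1 a (Subtype.ext (M.sq_A ha)) fun g hg =>
      mem_subgroupOf.2 (M.closed _ ha _ (mem_inf.1 (mem_subgroupOf.1 hg)).1)
  have hft : f ⟨t, ht⟩ = -1 := hf2 _ (Subtype.ext (M.tau_sq i)) fun g hg => htA (by
    have h' := M.closed _ (mem_subgroupOf.1 hg) (g : G)⁻¹
    simp only [Subgroup.coe_mul, InvMemClass.coe_inv] at h'
    rw [show (g : G)⁻¹ * ((g : G) * t * (g : G)⁻¹) * (g : G)⁻¹⁻¹ = t by group] at h'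
    exact h' htT)
  have hcube : ∀ y : C, (y : G) ∈ M.N → M.p y * M.p y * M.p y = 1 → f y = 1 := by
    intro y hy h3
    have hp : M.p ((y : G) ^ 3) = 1 := by rw [M.p_pow hy, pow_succ, sq, h3]
    obtain ⟨k, m, hm, he⟩ := Nat.exists_eq_two_pow_mul_odd (orderOf_pos ((y : G) ^ 3)).ne'
    have hA : ((y : G) ^ 3) ^ m ∈ M.A := by
      refine M.cent_two _ (pow_mem (pow_mem hy 3) m) (by rw [M.p_pow (pow_mem hy 3), hp, one_pow]) k ?_
      rw [← pow_mul, mul_comm m, ← he, pow_orderOf_eq_one]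
    have := hfA ((y ^ 3) ^ m) (by simpa using hA)
    rwa [map_pow, map_pow, units_pow_odd _ hm, units_pow_odd _ (by decide : Odd 3)] at this
  have hKiff : ∀ {y : G} (hy : y ∈ C), y ∈ f.ker.map C.subtype ↔ f ⟨y, hy⟩ = 1 := fun hy => by
    constructor
    · rintro ⟨y', hy', rfl⟩; exact hy'
    · exact fun h => ⟨⟨_, hy⟩, h, rfl⟩
  refine ⟨f.ker.map C.subtype, map_subtype_le _, fun a ha => (hKiff (hAC ha)).2 (hfA _ ha), ?_, ?_,
    fun y hy hodd => (hKiff hy).2 (map_eq_one_of_odd f isPGroup_units (by rw [Subgroup.orderOf_mk]; exact hodd)),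
    ?_, ?_⟩
  · rintro y hy _ ⟨k, hk, rfl⟩
    refine ⟨⟨y, hy⟩ * k * (⟨y, hy⟩)⁻¹, ?_, rfl⟩
    show f _ = 1
    rw [map_mul, map_mul, map_inv, show f k = 1 from hk, mul_one, mul_inv_cancel]
  · intro y hy
    rcases Int.units_eq_one_or (f ⟨y, hy⟩) with h | h
    · exact Or.inl ((hKiff hy).2 h)
    · refine Or.inr ((hKiff (mul_mem hy (inv_mem ht))).2 ?_)
      show f (⟨y, hy⟩ * (⟨t, ht⟩)⁻¹) = 1
      rw [map_mul, map_inv, h, hft, mul_inv_cancel]
  · intro n hn hnN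
    have hnC : n ∈ C := map_subtype_le _ hn
    rcases hstab n hnC hnN with h | ⟨-, -, h⟩
    · exact h
    · exfalso
      have h1 := hcube (⟨t, ht⟩ * ⟨n, hnC⟩) (mul_mem htN hnN) (by
        show M.p (t * n) * M.p (t * n) * M.p (t * n) = 1
        rw [M.p_mul _ htN _ hnN, htd, M.tau_p]
        exact h)
      rw [map_mul, hft, (hKiff hnC).1 hn, mul_one] at h1
      exact absurd h1 (by decide)
  · intro R hRK hR hAR x hx
    have hxN := M.mem_N_of_twoGroup hR hAR hx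
    obtain ⟨k, hk⟩ := hR ⟨x, hx⟩
    refine M.mem_A_of_cube hxN (congrArg Subtype.val hk) ?_
    have hxC : x ∈ C := map_subtype_le _ (hRK hx)
    rcases hstab x hxC hxN with h | ⟨-, -, h⟩
    · exact h
    · exfalso
      have h1 := hcube (⟨t, ht⟩ * ⟨x, hxC⟩) (mul_mem htN hxN) (by
        show M.p (t * x) * M.p (t * x) * M.p (t * x) = 1
        rw [M.p_mul _ htN _ hxN, htd, M.tau_p]
        exact h)
      rw [map_mul, hft, (hKiff hxC).1 (hRK hx), mul_one] at h1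
      exact absurd h1 (by decide)

end CfsgLib.A8Three
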