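import Cfsg.Agent.Inv54.Core
import Cfsg.Agent.Small.Dihedral
import Cfsg.Agent.PLocal.Cores
import Mathlib.GroupTheory.Transfer
import Mathlib.GroupTheory.GroupAction.Quotient
import Mathlib.GroupTheory.Sylow
import Mathlib.Tactic

/-!
# Generic tools: transfer into a quotient of order two, fusion, normal 2-complements
-/

set_option autoImplicit false
set_option linter.style.haveILetI false
set_option linter.unusedSectionVars false

namespace CfsgLib.A8Three

open Subgroup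
open scoped Pointwise

variable {G : Type*} [Group G] [Finite G]

/-- An element commuting with `b` by its square does so itself, if its order is odd. -/
theorem commute_of_odd_sq {n b : G} (hn : Odd (orderOf n)) (h : n * n * b = b * (n * n)) :
    n * b = b * n := by
  obtain ⟨k, hk⟩ := hn
  have e : (n * n) ^ (k + 1) = n := by
    rw [← sq, ← pow_mul, show 2 * (k + 1) = orderOf n + 1 by omega, pow_succ, pow_orderOf_eq_one, one_mul]
  have := Commute.pow_left (show Commute (n * n) b from h) (k + 1)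
  rw [e] at this
  exact this

/-- An element of odd order mapping `b` to itself or to `b z` commutes with `b`. -/
theorem commute_of_odd_mul {n b z : G} (hn : Odd (orderOf n)) (hnz : n * z = z * n) (hz : z * z = 1)
    (h : n * b * n⁻¹ = b ∨ n * b * n⁻¹ = b * z) : n * b = b * n := by
  rcases h with h | h
  · exact mul_inv_eq_iff_eq_mul.1 h
  · refine commute_of_odd_sq hn (mul_inv_eq_iff_eq_mul.1 ?_)
    calc n * n * b * (n * n)⁻¹ = n * (n * b * n⁻¹) * n⁻¹ := by group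
      _ = n * (b * z) * n⁻¹ := by rw [h]
      _ = (n * b * n⁻¹) * (n * z * n⁻¹) := by group
      _ = b * z * z := by rw [h, hnz, mul_inv_cancel_right]
      _ = b := by rw [mul_assoc, hz, mul_one]

/-- An odd element which is a power of a 2-element is trivial. -/
theorem eq_one_of_two_pow {x : G} {k : ℕ} (h2 : x ^ 2 ^ k = 1) (hodd : Odd (orderOf x)) : x = 1 :=
  orderOf_eq_one_iff.1 (Nat.eq_one_of_dvd_coprimes ((Nat.coprime_two_left.2 hodd).pow_left k)
    (orderOf_dvd_of_pow_eq_one h2) dvd_rfl)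

theorem odd_orderOf_of_mem {S : Subgroup G} (hS : Odd (Nat.card S)) {x : G} (hx : x ∈ S) : Odd (orderOf x) :=
  hS.of_dvd_nat (Subgroup.orderOf_dvd_natCard S hx)

/-- A hom into a 2-group kills elements of odd order. -/
theorem map_eq_one_of_odd {X Y : Type*} [Group X] [Group Y] (f : X →* Y) (hY : IsPGroup 2 Y) {x : X}
    (hx : Odd (orderOf x)) : f x = 1 := by
  obtain ⟨k, hk⟩ := hY (f x)
  refine orderOf_eq_one_iff.1 (Nat.eq_one_of_dvd_coprimes ((Nat.coprime_two_left.2 hx).pow_left k)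
    (orderOf_dvd_of_pow_eq_one hk) (orderOf_map_dvd f x))

/-- Transfer into `P / Q` for `Q` of index two in the Sylow 2-subgroup `P`, on involutions. -/
theorem exists_sign_hom {X : Type*} [Group X] [Finite X] (P : Sylow 2 X) (Q : Subgroup X)
    (hQ : Q.relIndex (P : Subgroup X) = 2) :
    ∃ f : X →* ℤˣ, (∀ u : X, u * u = 1 → (∀ g : X, g * u * g⁻¹ ∈ (P : Subgroup X) → g * u * g⁻¹ ∈ Q) → f u = 1) ∧
      (∀ u : X, u * u = 1 → (∀ g : X, g * u * g⁻¹ ∉ Q) → f u = -1) := by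
  classical
  haveI : Fact (Nat.Prime 2) := ⟨Nat.prime_two⟩
  have hQ2 : (Q.subgroupOf (P : Subgroup X)).index = 2 := hQ
  let φ : (P : Subgroup X) →* ℤˣ :=
    { toFun := fun s => if s ∈ Q.subgroupOf (P : Subgroup X) then 1 else -1
      map_one' := by simp
      map_mul' := fun a b => by
        by_cases ha : a ∈ Q.subgroupOf (P : Subgroup X) <;>
          by_cases hb : b ∈ Q.subgroupOf (P : Subgroup X) <;>
            simp [mul_mem_iff_of_index_two hQ2, ha, hb] }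
  have hφ : ∀ s : (P : Subgroup X), φ s = if (s : X) ∈ Q then 1 else -1 := fun s => rfl
  letI := (P : Subgroup X).fintypeQuotientOfFiniteIndex
  have key : ∀ (u : X), u * u = 1 → ∀ (t : X) (r : ℕ) (hr : t⁻¹ * u ^ r * t ∈ (P : Subgroup X)),
      (Even r → φ ⟨_, hr⟩ = 1) ∧ (¬ Even r → ∀ g, g = t⁻¹ → g * u * g⁻¹ ∈ (P : Subgroup X) ∧
        φ ⟨_, hr⟩ = if g * u * g⁻¹ ∈ Q then 1 else -1) := by
    intro u hu t r hr
    refine ⟨fun he => ?_, fun he g hg => ?_⟩
    · obtain ⟨j, rfl⟩ := he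
      have e : t⁻¹ * u ^ (j + j) * t = 1 := by
        rw [← two_mul, pow_mul, sq, hu, one_pow, mul_one, inv_mul_cancel]
      rw [hφ]; simp only [e, one_mem, if_true]
    · obtain ⟨j, rfl⟩ := Nat.not_even_iff_odd.1 he
      subst hg
      have e : t⁻¹ * u ^ (2 * j + 1) * t = t⁻¹ * u * t⁻¹⁻¹ := by
        rw [pow_succ, pow_mul, sq, hu, one_pow, one_mul, inv_inv]
      rw [← e]
      exact ⟨hr, hφ _⟩
  refine ⟨MonoidHom.transfer φ, fun u hu hin => ?_, fun u hu hout => ?_⟩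
  · rw [MonoidHom.transfer_eq_prod_quotient_orbitRel_zpowers_quot]
    refine Finset.prod_eq_one fun q _ => ?_
    obtain ⟨h1, h2⟩ := key u hu _ _ (QuotientGroup.out_conj_pow_minimalPeriod_mem (P : Subgroup X) u q.out)
    by_cases he : Even (Function.minimalPeriod (u • ·) q.out)
    · exact h1 he
    · obtain ⟨h3, h4⟩ := h2 he _ rfl
      rw [h4, if_pos (hin _ h3)]
  · rw [MonoidHom.transfer_eq_prod_quotient_orbitRel_zpowers_quot]
    have hterm : ∀ q : Quotient (MulAction.orbitRel (zpowers u) (X ⧸ (P : Subgroup X))),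
        φ ⟨q.out.out⁻¹ * u ^ Function.minimalPeriod (u • ·) q.out * q.out.out,
          QuotientGroup.out_conj_pow_minimalPeriod_mem (P : Subgroup X) u q.out⟩ =
          (-1) ^ Function.minimalPeriod (u • ·) q.out := by
      intro q
      obtain ⟨h1, h2⟩ := key u hu _ _ (QuotientGroup.out_conj_pow_minimalPeriod_mem (P : Subgroup X) u q.out)
      by_cases he : Even (Function.minimalPeriod (u • ·) q.out)
      · rw [h1 he, he.neg_one_pow]
      · obtain ⟨-, h4⟩ := h2 he _ rfl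
        rw [h4, if_neg (hout _), (Nat.not_even_iff_odd.1 he).neg_one_pow]
    rw [Fintype.prod_congr _ _ hterm, Finset.prod_pow_eq_pow_sum,
      ← Subgroup.index_eq_sum_minimalPeriod]
    exact (Nat.not_even_iff_odd.1 fun he => P.not_dvd_index he.two_dvd).neg_one_pow

section closed

variable (T : Sylow 2 G) {A : Subgroup G} (hAT : A ≤ T)
  (hcl : ∀ a ∈ A, ∀ g : G, g * a * g⁻¹ ∈ (T : Subgroup G) → g * a * g⁻¹ ∈ A)

include hAT hcl in
theorem mem_normalizer_of_conj_le {R : Subgroup G} (hR : IsPGroup 2 R) (hA : A ≤ R) {g : G}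
    (hg : ∀ a ∈ A, g * a * g⁻¹ ∈ R) : g ∈ normalizer (A : Set G) := by
  haveI : Fact (Nat.Prime 2) := ⟨Nat.prime_two⟩
  have hof : ∀ x : G, (∀ a ∈ A, x * a * x⁻¹ ∈ A) → x ∈ normalizer (A : Set G) := by
    intro x hx
    rw [mem_normalizer_iff_map_conj_eq]
    refine Subgroup.eq_of_le_of_card_ge ?_ (le_of_eq
      (Nat.card_congr (A.equivMapOfInjective _ (MulAut.conj x).injective).toEquiv))
    rintro _ ⟨a, ha, rfl⟩
    exact hx a ha
  obtain ⟨S, hS⟩ := hR.exists_le_sylow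
  obtain ⟨h, hh⟩ := MulAction.exists_smul_eq G S T
  have hT : ∀ y ∈ R, h * y * h⁻¹ ∈ (T : Subgroup G) := fun y hy => by
    rw [← hh]; exact ⟨y, hS hy, rfl⟩
  have h1 : h ∈ normalizer (A : Set G) := hof h fun a ha => hcl a ha h (hT a (hA ha))
  have h2 : h * g ∈ normalizer (A : Set G) := hof _ fun a ha => hcl a ha _ (by
    rw [show h * g * a * (h * g)⁻¹ = h * (g * a * g⁻¹) * h⁻¹ by group]
    exact hT _ (hg a ha))
  simpa using mul_mem (inv_mem h1) h2

include hAT hcl in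
theorem exists_fusion (hcomm : ∀ a ∈ A, ∀ b ∈ A, a * b = b * a) {C : Subgroup G} (hAC : A ≤ C)
    {u g : G} (hg : g ∈ C) (hu : u ∈ A) (hv : g * u * g⁻¹ ∈ A) :
    ∃ n ∈ C, n ∈ normalizer (A : Set G) ∧ n * u * n⁻¹ = g * u * g⁻¹ := by
  haveI : Fact (Nat.Prime 2) := ⟨Nat.prime_two⟩
  let L : Subgroup G := C ⊓ centralizer ({g * u * g⁻¹} : Set G)
  have h1 : A ≤ L := le_inf hAC fun a ha => mem_centralizer_singleton_iff.2 (hcomm a ha _ hv)
  have h2 : A.map (MulAut.conj g).toMonoidHom ≤ L := by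
    rintro _ ⟨a, ha, rfl⟩
    refine mem_inf.2 ⟨mul_mem (mul_mem hg (hAC ha)) (inv_mem hg), mem_centralizer_singleton_iff.2 ?_⟩
    show g * a * g⁻¹ * (g * u * g⁻¹) = g * u * g⁻¹ * (g * a * g⁻¹)
    calc g * a * g⁻¹ * (g * u * g⁻¹) = g * (a * u) * g⁻¹ := by group
      _ = g * (u * a) * g⁻¹ := by rw [hcomm a ha u hu]
      _ = _ := by group
  have hAp : IsPGroup 2 A := T.isPGroup'.to_le hAT
  obtain ⟨R, hR⟩ := (hAp.comap_of_injective L.subtype Subtype.val_injective).exists_le_sylow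
  obtain ⟨R', hR'⟩ := ((hAp.map (MulAut.conj g).toMonoidHom).comap_of_injective L.subtype
    Subtype.val_injective).exists_le_sylow
  obtain ⟨c, hc⟩ := MulAction.exists_smul_eq L R' R
  refine ⟨(c : G) * g, mul_mem (mem_inf.1 c.2).1 hg,
    mem_normalizer_of_conj_le T hAT hcl ((R.isPGroup').map L.subtype)
      (fun a ha => ⟨⟨a, h1 ha⟩, hR ha, rfl⟩) fun a ha => ?_, ?_⟩
  · refine ⟨c * ⟨g * a * g⁻¹, h2 ⟨a, ha, rfl⟩⟩ * c⁻¹, ?_, by simp [mul_assoc]⟩
    rw [← hc]
    exact ⟨_, hR' ⟨a, ha, rfl⟩, rfl⟩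
  · have := mem_centralizer_singleton_iff.1 (mem_inf.1 c.2).2
    calc (c : G) * g * u * ((c : G) * g)⁻¹ = (c : G) * (g * u * g⁻¹) * (c : G)⁻¹ := by group
      _ = _ := by rw [this, mul_inv_cancel_right]

end closed

/-- `O` is an odd subgroup of `C`, invariant under it, containing its elements of odd order, with
`C = O Q`. -/
structure IsCompl2 (C Q O : Subgroup G) : Prop where
  le : O ≤ C
  odd : Odd (Nat.card O)
  conj : ∀ y ∈ C, ∀ o ∈ O, y * o * y⁻¹ ∈ O
  decomp : ∀ y ∈ C, ∃ o ∈ O, ∃ q ∈ Q, y = o * q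
  mem_of_odd : ∀ y ∈ C, Odd (orderOf y) → y ∈ O

/-- An element of odd order normalizing a 2-subgroup centralizes it. -/
theorem IsCompl2.commute {C Q O : Subgroup G} (h : IsCompl2 C Q O) {n s : G} (hn : n ∈ C)
    (hs : s ∈ C) (hodd : Odd (orderOf n)) {S : Subgroup G} (hS : IsPGroup 2 S) (hsS : s ∈ S)
    (hns : n * s * n⁻¹ ∈ S) : n * s = s * n := by
  have hnO := h.mem_of_odd n hn hodd
  have hc : n * s * n⁻¹ * s⁻¹ ∈ O := by
    rw [show n * s * n⁻¹ * s⁻¹ = n * (s * n⁻¹ * s⁻¹) by group]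
    exact mul_mem hnO (h.conj s hs _ (inv_mem hnO))
  obtain ⟨k, hk⟩ := hS ⟨_, mul_mem hns (inv_mem hsS)⟩
  have := eq_one_of_two_pow (congrArg Subtype.val hk) (odd_orderOf_of_mem h.odd hc)
  exact mul_inv_eq_iff_eq_mul.1 (mul_inv_eq_one.1 this)

/-- Burnside's transfer theorem, inside a subgroup. -/
theorem exists_compl_of_abelian {C S : Subgroup G} (hSC : S ≤ C) (hp : IsPGroup 2 S)
    (hmax : ∀ R : Subgroup G, R ≤ C → IsPGroup 2 R → S ≤ R → R ≤ S)
    (hcomm : ∀ n ∈ C, (∀ s, s ∈ S ↔ n * s * n⁻¹ ∈ S) → ∀ s ∈ S, n * s = s * n) :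
    ∃ O, IsCompl2 C S O := by
  haveI : Fact (Nat.Prime 2) := ⟨Nat.prime_two⟩
  let SC : Sylow 2 C := ⟨S.subgroupOf C, hp.comap_of_injective _ Subtype.val_injective,
    fun {R} hR hle => le_antisymm (fun y hy => mem_subgroupOf.2
      (hmax _ (map_subtype_le R) (hR.map C.subtype)
        (fun s hs => ⟨⟨s, hSC hs⟩, hle (mem_subgroupOf.2 hs), rfl⟩) ⟨y, hy, rfl⟩)) hle⟩
  have hSC' : normalizer ((SC : Subgroup C) : Set C) ≤ centralizer ((SC : Subgroup C) : Set C) := by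
    intro n hn
    rw [mem_centralizer_iff]
    intro s hs
    refine Subtype.ext ((hcomm n n.2 (fun x => ⟨fun hx => ?_, fun hx => ?_⟩) s (mem_subgroupOf.1 hs)).symm)
    · exact mem_subgroupOf.1 ((mem_normalizer_iff.1 hn ⟨x, hSC hx⟩).1 (mem_subgroupOf.2 hx))
    · have hxC : x ∈ C := by
        have := mul_mem (mul_mem (inv_mem n.2) (hSC hx)) n.2
        rwa [show (n : G)⁻¹ * ((n : G) * x * (n : G)⁻¹) * n = x by group] at this
      exact mem_subgroupOf.1 ((mem_normalizer_iff.1 hn ⟨x, hxC⟩).2 (mem_subgroupOf.2 hx))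
  set K := (MonoidHom.transferSylow SC hSC').ker with hK
  have hKodd : Odd (Nat.card K) := by
    rw [← Nat.not_even_iff_odd, even_iff_two_dvd]
    exact MonoidHom.not_dvd_card_ker_transferSylow SC hSC'
  have hcompl := MonoidHom.ker_transferSylow_isComplement' SC hSC'
  have hmem : ∀ y : C, Odd (orderOf y) → y ∈ K := fun y hy =>
    MonoidHom.mem_ker.2 (map_eq_one_of_odd _ SC.isPGroup' hy)
  refine ⟨K.map C.subtype, map_subtype_le K, ?_, ?_, ?_, fun y hy hodd =>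
    ⟨⟨y, hy⟩, hmem _ (by rw [Subgroup.orderOf_mk]; exact hodd), rfl⟩⟩
  · rw [← Nat.card_congr (K.equivMapOfInjective _ C.subtype_injective).toEquiv]
    exact hKodd
  · rintro y hy _ ⟨o, ho, rfl⟩
    refine ⟨⟨y, hy⟩ * o * (⟨y, hy⟩)⁻¹, hmem _ ?_, rfl⟩
    rw [Small.orderOf_conj_eq]
    exact hKodd.of_dvd_nat (Subgroup.orderOf_dvd_natCard K ho)
  · intro y hy
    obtain ⟨⟨a, b⟩, hab⟩ := hcompl.2 ⟨y, hy⟩
    exact ⟨_, ⟨a, a.2, rfl⟩, ((b : C) : G), mem_subgroupOf.1 b.2, congrArg Subtype.val hab.symm⟩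

/-- Extension of a normal 2-complement over index two. -/
theorem IsCompl2.extend {K C A Q O : Subgroup G} (h : IsCompl2 K A O) (hKC : K ≤ C)
    (hAQ : A ≤ Q) {t : G} (ht : t ∈ Q)
    (hconj : ∀ y ∈ C, ∀ k ∈ K, y * k * y⁻¹ ∈ K)
    (hdec : ∀ y ∈ C, y ∈ K ∨ y * t⁻¹ ∈ K) (hoddK : ∀ y ∈ C, Odd (orderOf y) → y ∈ K) :
    IsCompl2 C Q O := by
  refine ⟨h.le.trans hKC, h.odd, fun y hy o ho => ?_, fun y hy => ?_, fun y hy hodd =>
    h.mem_of_odd y (hoddK y hy hodd) hodd⟩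
  · refine h.mem_of_odd _ (hconj y hy o (h.le ho)) ?_
    rw [Small.orderOf_conj_eq]
    exact odd_orderOf_of_mem h.odd ho
  · rcases hdec y hy with hk | hk
    · obtain ⟨o, ho, q, hq, e⟩ := h.decomp y hk
      exact ⟨o, ho, q, hAQ hq, e⟩
    · obtain ⟨o, ho, q, hq, e⟩ := h.decomp _ hk
      exact ⟨o, ho, q * t, mul_mem (hAQ hq) ht, by rw [← mul_assoc, ← e, inv_mul_cancel_right]⟩

end CfsgLib.A8Three
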