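import Cfsg.Prelude.Def_CaseTheorems
import Cfsg.Prelude.Def_Transfer
import Cfsg.Agent.A8Three.AEight
import Cfsg.Agent.A8Three.Tools
import Mathlib.GroupTheory.SpecificGroups.Alternating.Simple

/-!
# The normalizer of `A`
-/

set_option autoImplicit false
set_option linter.style.haveILetI false
set_option linter.unusedSectionVars false

namespace CfsgLib.A8Three

open Subgroup Equiv
open scoped Pointwise

/-- The normalizer data. -/
structure Loc {G : Type*} [Group G] (A : Subgroup G) where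
  T : Sylow 2 G
  O : Subgroup G
  ψ : (normalizer (A : Set G) : Subgroup G) →* Perm (Fin 5)
  le_T : A ≤ T
  T_le : (T : Subgroup G) ≤ normalizer (A : Set G)
  range : ψ.range = alternatingGroup (Fin 5)
  O_odd : Odd (Nat.card O)
  O_le : O ≤ normalizer (A : Set G)
  O_conj : ∀ n ∈ normalizer (A : Set G), ∀ o ∈ O, n * o * n⁻¹ ∈ O
  O_comm : ∀ o ∈ O, ∀ a ∈ A, o * a = a * o
  ker : ∀ n, ψ n = 1 ↔ ∀ a ∈ A, (n : G) * a = a * n
  decomp : ∀ n, ψ n = 1 → ∃ a ∈ A, ∃ o ∈ O, (n : G) = a * o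

theorem exists_loc {G : Type*} [Group G] [Finite G] (S : Sylow 2 G)
    (P : Sylow 2 ↥(alternatingGroup (Fin 8)))
    (hS : Nonempty (↥(S : Subgroup G) ≃* ↥(P : Subgroup ↥(alternatingGroup (Fin 8)))))
    (A : Subgroup G) (hcomm : ∀ a ∈ A, ∀ b ∈ A, a * b = b * a)
    (hA16 : Nat.card ↥A = 16)
    (hNA : ∃ (_ : (A.subgroupOf (normalizer (A : Set G)) ⊔ Cfsg.oddCore ↥(normalizer (A : Set G))).Normal),
      Nonempty (↥(normalizer (A : Set G)) ⧸ (A.subgroupOf (normalizer (A : Set G)) ⊔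
        Cfsg.oddCore ↥(normalizer (A : Set G))) ≃* ↥(alternatingGroup (Fin 5)))) :
    Nonempty (Loc A) := by
  classical
  haveI : Fact (Nat.Prime 2) := ⟨Nat.prime_two⟩
  set N := normalizer (A : Set G) with hNdef
  obtain ⟨hDn, ⟨e⟩⟩ := hNA
  haveI := hDn
  set AN := A.subgroupOf N with hANdef
  set O := Cfsg.oddCore ↥N with hOdef
  set D := AN ⊔ O with hDdef
  have hAN : A ≤ N := le_normalizer
  haveI hANn : AN.Normal := ⟨fun a ha n => mem_subgroupOf.2 ((mem_normalizer_iff.1 n.2 _).1 (mem_subgroupOf.1 ha))⟩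
  haveI hOn : O.Normal := inferInstance
  have hAp : IsPGroup 2 AN := by
    refine IsPGroup.of_card (n := 4) ?_
    rw [hANdef, Nat.card_congr (subgroupOfEquivOfLe hAN).toEquiv, hA16]; rfl
  have hdisj : Disjoint AN O := by
    refine disjoint_def.2 fun {x} hx hxO => ?_
    obtain ⟨k, hk⟩ := hAp ⟨x, hx⟩
    exact eq_one_of_two_pow (congrArg Subtype.val hk) (odd_orderOf_of_mem CfsgLib.Inv54.odd_card_oddCore hxO)
  have hOA : ∀ o ∈ O, ∀ a ∈ A, (o : G) * a = a * o := fun o ho a ha =>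
    (congrArg Subtype.val (Subgroup.commute_of_normal_of_disjoint AN O hANn hOn hdisj ⟨a, hAN ha⟩ o
      (mem_subgroupOf.2 ha) ho).eq).symm
  have hDdec : ∀ n ∈ D, ∃ a ∈ A, ∃ o ∈ O, (n : G) = a * o := by
    intro n hn
    have h : n ∈ ((AN : Set N) * (O : Set N)) := by
      rw [← Subgroup.normal_mul AN O]
      exact hn
    obtain ⟨a, ha, o, ho, rfl⟩ := Set.mem_mul.1 h
    exact ⟨a, mem_subgroupOf.1 ha, o, ho, rfl⟩
  -- the Sylow subgroup
  have h64 : Nat.card (S : Subgroup G) = 64 := by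
    obtain ⟨i⟩ := hS
    rw [Nat.card_congr i.toEquiv, card_sylow_eight]
  have hNdvd : 64 ∣ Nat.card N := by
    rw [Subgroup.card_eq_card_quotient_mul_card_subgroup D, Nat.card_congr e.toEquiv,
      Nat.card_eq_fintype_card, card_alternatingGroup]
    have h16 : 16 ∣ Nat.card D := by
      rw [← hA16, ← Nat.card_congr (subgroupOfEquivOfLe hAN).toEquiv]
      exact Subgroup.card_dvd_of_le le_sup_left
    simp only [Fintype.card_fin]
    obtain ⟨c, hc⟩ := h16
    rw [hc]
    exact ⟨15 * c, by norm_num [Nat.factorial]; ring⟩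
  obtain ⟨T0⟩ : Nonempty (Sylow 2 N) := inferInstance
  have hT0 : Nat.card (T0 : Subgroup N) = 64 := by
    refine Nat.dvd_antisymm ?_ ?_
    · obtain ⟨g, hg⟩ : ∃ g : G, ((T0 : Subgroup N).map N.subtype).map (MulAut.conj g).toMonoidHom ≤ S := by
        obtain ⟨R, hR⟩ := (T0.isPGroup'.map N.subtype).exists_le_sylow
        obtain ⟨g, hg⟩ := MulAction.exists_smul_eq G R S
        exact ⟨g, by rintro _ ⟨x, hx, rfl⟩; rw [← hg]; exact ⟨x, hR hx, rfl⟩⟩
      rw [← h64, ← Subgroup.card_map_of_injective (f := N.subtype) N.subtype_injective,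
        ← Subgroup.card_map_of_injective (f := (MulAut.conj g).toMonoidHom) (MulAut.conj g).injective]
      exact Subgroup.card_dvd_of_le hg
    · exact T0.pow_dvd_card_of_pow_dvd_card (n := 6) hNdvd
  have hTcard : Nat.card ((T0 : Subgroup N).map N.subtype) = Nat.card (S : Subgroup G) := by
    rw [Subgroup.card_map_of_injective (f := N.subtype) N.subtype_injective, hT0, h64]
  let T : Sylow 2 G := Sylow.ofCard ((T0 : Subgroup N).map N.subtype) (by rw [hTcard, S.card_eq_multiplicity])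
  have hTeq : (T : Subgroup G) = (T0 : Subgroup N).map N.subtype := rfl
  have hAT : A ≤ T := fun a ha => hTeq ▸ ⟨⟨a, hAN ha⟩, hAp.le_sylow_of_normal T0 (mem_subgroupOf.2 ha), rfl⟩
  have hTN : (T : Subgroup G) ≤ N := hTeq ▸ map_subtype_le _
  -- the action is faithful on the quotient
  let θ : N →* ↥(alternatingGroup (Fin 5)) := e.toMonoidHom.comp (QuotientGroup.mk' D)
  have hθs : Function.Surjective θ := e.surjective.comp (QuotientGroup.mk'_surjective D)
  have hθk : ∀ n, θ n = 1 ↔ n ∈ D := fun n => by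
    show e (QuotientGroup.mk' D n) = 1 ↔ _
    rw [map_eq_one_iff e e.injective]
    exact QuotientGroup.eq_one_iff n
  let CN : Subgroup N := (centralizer (A : Set G)).subgroupOf N
  haveI : CN.Normal := ⟨fun c hc n => mem_subgroupOf.2 (mem_centralizer_iff.2 fun a ha => by
    have h := mem_centralizer_iff.1 (mem_subgroupOf.1 hc) ((n : G)⁻¹ * a * n) ((mem_normalizer_iff''.1 n.2 a).1 ha)
    simp only [Subgroup.coe_mul, InvMemClass.coe_inv]
    calc a * ((n : G) * c * (n : G)⁻¹) = n * ((n : G)⁻¹ * a * n * c) * (n : G)⁻¹ := by group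
      _ = n * (c * ((n : G)⁻¹ * a * n)) * (n : G)⁻¹ := by rw [h]
      _ = _ := by group)⟩
  have hDC : D ≤ CN := sup_le (fun a ha => mem_subgroupOf.2 (mem_centralizer_iff.2 fun b hb =>
    hcomm b hb _ (mem_subgroupOf.1 ha))) (fun o ho => mem_subgroupOf.2 (mem_centralizer_iff.2 fun a ha => (hOA o ho a ha).symm))
  have hCD : CN ≤ D := by
    haveI : IsSimpleGroup ↥(alternatingGroup (Fin 5)) := alternatingGroup.isSimpleGroup (by simp)
    rcases IsSimpleGroup.eq_bot_or_eq_top_of_normal (CN.map θ) (Subgroup.Normal.map inferInstance θ hθs) with h | h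
    · exact fun c hc => (hθk c).1 ((eq_bot_iff.1 h) ⟨c, hc, rfl⟩)
    · exfalso
      have htop : ∀ n : N, n ∈ CN := fun n => by
        obtain ⟨c, hc, hcn⟩ := (h ▸ mem_top (θ n) : θ n ∈ CN.map θ)
        have : c⁻¹ * n ∈ D := (hθk _).1 (by rw [map_mul, map_inv, hcn, inv_mul_cancel])
        simpa using mul_mem hc (hDC this)
      obtain ⟨i⟩ := hS
      let j : (T : Subgroup G) ≃* (P : Subgroup ↥(alternatingGroup (Fin 8))) := (Sylow.equiv T S).trans i
      refine no_central_sixteen P ((A.subgroupOf (T : Subgroup G)).map j.toMonoidHom) ?_ ?_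
      · rintro _ ⟨a, ha, rfl⟩
        refine mem_center_iff.2 fun g => ?_
        obtain ⟨t, rfl⟩ := j.surjective g
        show j t * j a = j a * j t
        rw [← map_mul, ← map_mul]
        exact congrArg j (Subtype.ext ((mem_centralizer_iff.1 (mem_subgroupOf.1 (htop ⟨t, hTN t.2⟩)) _
          (mem_subgroupOf.1 ha)).symm))
      · rw [Subgroup.card_map_of_injective (f := j.toMonoidHom) j.injective,
          Nat.card_congr (subgroupOfEquivOfLe hAT).toEquiv, hA16]
  refine ⟨⟨T, O.map N.subtype, (alternatingGroup (Fin 5)).subtype.comp θ, hAT, hTN, ?_, ?_,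
    map_subtype_le _, ?_, ?_, ?_, ?_⟩⟩
  · rw [MonoidHom.range_comp, MonoidHom.range_eq_top.2 hθs, ← MonoidHom.range_eq_map, Subgroup.range_subtype]
  · rw [Subgroup.card_map_of_injective (f := N.subtype) N.subtype_injective]
    exact CfsgLib.Inv54.odd_card_oddCore
  · rintro n hn _ ⟨o, ho, rfl⟩
    exact ⟨⟨n, hn⟩ * o * (⟨n, hn⟩)⁻¹, hOn.conj_mem o ho _, rfl⟩
  · rintro _ ⟨o, ho, rfl⟩ a ha
    exact hOA o ho a ha
  · intro n
    rw [MonoidHom.comp_apply, map_eq_one_iff _ (Subgroup.subtype_injective _), hθk]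
    exact ⟨fun h a ha => ((mem_centralizer_iff.1 (mem_subgroupOf.1 (hDC h))) a ha).symm,
      fun h => hCD (mem_subgroupOf.2 (mem_centralizer_iff.2 fun a ha => (h a ha).symm))⟩
  · intro n hn
    rw [MonoidHom.comp_apply, map_eq_one_iff _ (Subgroup.subtype_injective _), hθk] at hn
    obtain ⟨a, ha, o, ho, h⟩ := hDdec n hn
    exact ⟨a, ha, o, ⟨o, ho, rfl⟩, h⟩

end CfsgLib.A8Three
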