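import Cfsg.Agent.A8Three.Comb
import Cfsg.Agent.A8Three.Tools

/-!
# The model of the normalizer of `A`, and the subgroup `T1` of the Sylow subgroup
-/

set_option autoImplicit false
set_option linter.style.haveILetI false
set_option linter.unusedSectionVars false

namespace CfsgLib.A8Three

open Subgroup

/-- The structure of the local data. -/
structure Model (G : Type*) [Group G] where
  A : Subgroup G
  T : Sylow 2 G
  w : V5 → G
  p : G → Equiv.Perm (Fin 5)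
  le_T : A ≤ T
  T_norm : (T : Subgroup G) ≤ normalizer (A : Set G)
  w_mem : ∀ v, w v ∈ A
  w_surj : ∀ a ∈ A, ∃ v, w v = a
  w_add : ∀ u v, w (u + v) = w u * w v
  w_one : ∀ v, w v = 1 ↔ Eqv v 0
  p_mul : ∀ m ∈ normalizer (A : Set G), ∀ n ∈ normalizer (A : Set G), p (m * n) = p m * p n
  conj_w : ∀ n ∈ normalizer (A : Set G), ∀ v, n * w v * n⁻¹ = w (act (p n) v)
  p_surj : ∀ π, Equiv.Perm.sign π = 1 → ∃ n ∈ normalizer (A : Set G), p n = π
  p_even : ∀ n ∈ normalizer (A : Set G), Equiv.Perm.sign (p n) = 1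
  cent_two : ∀ n ∈ normalizer (A : Set G), p n = 1 → ∀ k : ℕ, n ^ 2 ^ k = 1 → n ∈ A
  T_fix : ∀ x ∈ (T : Subgroup G), p x 4 = 4
  T_surj : ∀ i, ∃ x ∈ (T : Subgroup G), p x = kl i
  closed : ∀ a ∈ A, ∀ g : G, g * a * g⁻¹ ∈ (T : Subgroup G) → g * a * g⁻¹ ∈ A
  not_conj : ¬ IsConj (w (ev 0)) (w (ev 0 + ev 1))
  outside : ∃ x ∈ (T : Subgroup G), x * x = 1 ∧ x ∉ A

namespace Model

variable {G : Type*} [Group G] (M : Model G)

/-- The normalizer of `A`. -/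
abbrev N : Subgroup G := normalizer (M.A : Set G)

/-- The central involution of `T`. -/
abbrev z : G := M.w (ev 4)

theorem A_le_N : M.A ≤ M.N := le_normalizer

theorem w_memN (v : V5) : M.w v ∈ M.N := M.A_le_N (M.w_mem v)

theorem w_zero : M.w 0 = 1 := (M.w_one 0).2 (Or.inl (add_zero 0))

theorem w_sq (v : V5) : M.w v * M.w v = 1 := by rw [← M.w_add, add_self_vec, w_zero]

theorem w_inv (v : V5) : (M.w v)⁻¹ = M.w v := inv_eq_of_mul_eq_one_right (M.w_sq v)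

theorem comm_A {a b : G} (ha : a ∈ M.A) (hb : b ∈ M.A) : a * b = b * a := by
  obtain ⟨u, rfl⟩ := M.w_surj a ha
  obtain ⟨v, rfl⟩ := M.w_surj b hb
  rw [← M.w_add, ← M.w_add, add_comm]

theorem sq_A {a : G} (ha : a ∈ M.A) : a * a = 1 := by
  obtain ⟨u, rfl⟩ := M.w_surj a ha
  exact M.w_sq u

theorem w_eq {u v : V5} : M.w u = M.w v ↔ Eqv u v := by
  rw [← mul_inv_eq_one, M.w_inv, ← M.w_add, M.w_one]
  simp [Eqv]

theorem p_one : M.p 1 = 1 := by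
  have h := M.p_mul 1 (one_mem _) 1 (one_mem _)
  rwa [one_mul, left_eq_mul] at h

theorem p_inv {n : G} (hn : n ∈ M.N) : M.p n⁻¹ = (M.p n)⁻¹ := by
  refine eq_inv_of_mul_eq_one_left ?_
  rw [← M.p_mul _ (inv_mem hn) _ hn, inv_mul_cancel, M.p_one]

theorem p_pow {n : G} (hn : n ∈ M.N) (k : ℕ) : M.p (n ^ k) = M.p n ^ k := by
  induction k with
  | zero => rw [pow_zero, pow_zero, M.p_one]
  | succ k ih => rw [pow_succ, pow_succ, M.p_mul _ (pow_mem hn k) _ hn, ih]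

theorem commute_iff {n : G} (hn : n ∈ M.N) {v : V5} :
    n * M.w v = M.w v * n ↔ Eqv (act (M.p n) v) v := by
  rw [← M.w_eq, ← M.conj_w n hn, mul_inv_eq_iff_eq_mul]

theorem p_w (v : V5) : M.p (M.w v) = 1 :=
  faithful _ fun _ => (M.commute_iff (M.w_memN v)).1 (M.comm_A (M.w_mem v) (M.w_mem _))

theorem p_mem_A {a : G} (ha : a ∈ M.A) : M.p a = 1 := by
  obtain ⟨u, rfl⟩ := M.w_surj a ha
  exact M.p_w u

theorem cube_eq_one {π : Equiv.Perm (Fin 5)} {k : ℕ} (h : π ^ 2 ^ k = 1) (h3 : π * π * π = 1) :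
    π = 1 := by
  refine eq_one_of_two_pow h ((show Odd 3 by decide).of_dvd_nat (orderOf_dvd_of_pow_eq_one ?_))
  rw [pow_succ, sq, h3]

theorem mem_A_of_cube {n : G} (hn : n ∈ M.N) {k : ℕ} (h2 : n ^ 2 ^ k = 1)
    (h3 : M.p n * M.p n * M.p n = 1) : n ∈ M.A :=
  M.cent_two n hn (cube_eq_one (k := k) (by rw [← M.p_pow hn, h2, M.p_one]) h3) k h2

theorem exists_pow_T {x : G} (hx : x ∈ (M.T : Subgroup G)) : ∃ k : ℕ, x ^ 2 ^ k = 1 := by
  obtain ⟨k, hk⟩ := M.T.isPGroup' ⟨x, hx⟩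
  exact ⟨k, congrArg Subtype.val hk⟩

theorem T_kl {x : G} (hx : x ∈ (M.T : Subgroup G)) : ∃ i, M.p x = kl i := by
  rcases kl_cases _ (M.p_even x (M.T_norm hx)) (M.T_fix x hx) with h | h
  · obtain ⟨k, hk⟩ := M.exists_pow_T hx
    exact ⟨0, (M.p_mem_A (M.mem_A_of_cube (M.T_norm hx) hk h)).trans rfl⟩
  · exact h

theorem mem_A_of_T {x : G} (hx : x ∈ (M.T : Subgroup G)) (hp : M.p x = 1) : x ∈ M.A := by
  obtain ⟨k, hk⟩ := M.exists_pow_T hx
  exact M.cent_two x (M.T_norm hx) hp k hk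

theorem z_T : ∀ x ∈ (M.T : Subgroup G), x * M.z = M.z * x := fun x hx =>
  (M.commute_iff (M.T_norm hx)).2 ((fix_four _).2 (M.T_fix x hx))

section

variable [Finite G]

theorem mem_N_of_twoGroup {R : Subgroup G} (hR : IsPGroup 2 R) (hA : M.A ≤ R) : R ≤ M.N := fun _ hg =>
  mem_normalizer_of_conj_le M.T M.le_T M.closed hR hA fun _ ha => mul_mem (mul_mem hg (hA ha)) (inv_mem hg)

/-- The elements of `N` acting through the four group. -/
def V : Subgroup G where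
  carrier := {n | n ∈ M.N ∧ ∃ i, M.p n = kl i}
  one_mem' := ⟨one_mem _, 0, M.p_one⟩
  mul_mem' := fun {a b} ⟨ha, i, hi⟩ ⟨hb, j, hj⟩ => by
    obtain ⟨l, hl⟩ := kl_mul i j
    exact ⟨mul_mem ha hb, l, by rw [M.p_mul _ ha _ hb, hi, hj, hl]⟩
  inv_mem' := fun {a} ⟨ha, i, hi⟩ =>
    ⟨inv_mem ha, i, by rw [M.p_inv ha, hi, inv_eq_of_mul_eq_one_right (kl_spec i).2.2.1]⟩

theorem exists_tau : ∀ i : Fin 4, ∃ t ∈ (M.T : Subgroup G), t * t = 1 ∧ M.p t = kl i ∧ (i = 0 → t = 1) := by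
  intro i
  rcases eq_or_ne i 0 with rfl | hi
  · exact ⟨1, one_mem _, one_mul 1, M.p_one, fun _ => rfl⟩
  haveI : Fact (Nat.Prime 2) := ⟨Nat.prime_two⟩
  obtain ⟨x, hx, hx2, hxA⟩ := M.outside
  have hxN := M.T_norm hx
  obtain ⟨σ, hσ, hσx⟩ := conj_kl (M.p x) i (M.p_even x hxN) hi
    (by rw [← M.p_mul _ hxN _ hxN, hx2, M.p_one])
    (fun h => hxA (M.mem_A_of_T hx h))
  obtain ⟨n, hn, rfl⟩ := M.p_surj σ hσ
  have hy : n * x * n⁻¹ ∈ M.N := mul_mem (mul_mem hn hxN) (inv_mem hn)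
  have hyp : M.p (n * x * n⁻¹) = kl i := by
    rw [M.p_mul _ (mul_mem hn hxN) _ (inv_mem hn), M.p_mul _ hn _ hxN, M.p_inv hn, hσx]
  have hy2 : n * x * n⁻¹ * (n * x * n⁻¹) = 1 := by
    calc n * x * n⁻¹ * (n * x * n⁻¹) = n * (x * x) * n⁻¹ := by group
      _ = 1 := by rw [hx2]; group
  have hzp : IsPGroup 2 (zpowers (n * x * n⁻¹)) := by
    refine IsPGroup.of_card (n := 1) ?_
    rw [Nat.card_zpowers, pow_one]
    refine orderOf_eq_prime (by rw [sq, hy2]) fun h => hi ((kl_spec i).2.2.2 ?_)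
    rw [← hyp, h, M.p_one]
  have hR : IsPGroup 2 (M.A ⊔ zpowers (n * x * n⁻¹) : Subgroup G) :=
    (M.T.isPGroup'.to_le M.le_T).to_sup_of_normal_left' hzp (zpowers_le.2 hy)
  have hTV : (M.T : Subgroup G) ≤ M.V := fun t ht => ⟨M.T_norm ht, M.T_kl ht⟩
  have hRV : M.A ⊔ zpowers (n * x * n⁻¹) ≤ M.V :=
    sup_le (fun a ha => ⟨M.A_le_N ha, 0, M.p_mem_A ha⟩) (zpowers_le.2 ⟨hy, i, hyp⟩)
  obtain ⟨S, hS⟩ := (hR.comap_of_injective M.V.subtype Subtype.val_injective).exists_le_sylow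
  obtain ⟨g, hg⟩ := MulAction.exists_smul_eq M.V S (M.T.subtype hTV)
  obtain ⟨hgN, l, hgl⟩ := g.2
  refine ⟨(g : G) * (n * x * n⁻¹) * (g : G)⁻¹, ?_, ?_, ?_, fun h => absurd h hi⟩
  · have : g * ⟨_, hRV (mem_sup_right (mem_zpowers _))⟩ * g⁻¹ ∈ (M.T.subtype hTV : Subgroup M.V) := by
      rw [← hg]; exact ⟨_, hS (mem_sup_right (mem_zpowers (n * x * n⁻¹))), rfl⟩
    rwa [Sylow.coe_subtype, mem_subgroupOf] at this
  · calc (g : G) * (n * x * n⁻¹) * (g : G)⁻¹ * ((g : G) * (n * x * n⁻¹) * (g : G)⁻¹) =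
          (g : G) * (n * x * n⁻¹ * (n * x * n⁻¹)) * (g : G)⁻¹ := by group
      _ = 1 := by rw [hy2]; group
  · rw [M.p_mul _ (mul_mem hgN hy) _ (inv_mem hgN), M.p_mul _ hgN _ hy, M.p_inv hgN, hyp, hgl,
      kl_comm, mul_inv_cancel_right]

/-- A chosen involution of `T` over each element of the four group. -/
noncomputable def tau (i : Fin 4) : G := (M.exists_tau i).choose

theorem tau_mem (i : Fin 4) : M.tau i ∈ (M.T : Subgroup G) := (M.exists_tau i).choose_spec.1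

theorem tau_sq (i : Fin 4) : M.tau i * M.tau i = 1 := (M.exists_tau i).choose_spec.2.1

theorem tau_p (i : Fin 4) : M.p (M.tau i) = kl i := (M.exists_tau i).choose_spec.2.2.1

theorem tau_zero : M.tau 0 = 1 := (M.exists_tau 0).choose_spec.2.2.2 rfl

theorem tau_inv (i : Fin 4) : (M.tau i)⁻¹ = M.tau i := inv_eq_of_mul_eq_one_right (M.tau_sq i)

theorem w_tau (i : Fin 4) (v : V5) : M.w v * M.tau i = M.tau i * M.w (act (kl i) v) := by
  rw [← M.tau_p i, ← M.conj_w _ (M.T_norm (M.tau_mem i)), M.tau_inv, ← mul_assoc, ← mul_assoc,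
    M.tau_sq, one_mul]

theorem form_sq (i : Fin 4) (v : V5) :
    M.tau i * M.w v * (M.tau i * M.w v) = M.w (act (kl i) v + v) := by
  rw [mul_assoc, ← mul_assoc (M.w v), M.w_tau, mul_assoc, ← mul_assoc (M.tau i), M.tau_sq, one_mul,
    ← M.w_add]

theorem exists_form {x : G} (hx : x ∈ (M.T : Subgroup G)) : ∃ i v, x = M.tau i * M.w v := by
  obtain ⟨i, hi⟩ := M.T_kl hx
  have hxN := M.T_norm hx
  have hA : (M.tau i)⁻¹ * x ∈ M.A := M.mem_A_of_T (mul_mem (inv_mem (M.tau_mem i)) hx) (by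
    rw [M.p_mul _ (inv_mem (M.T_norm (M.tau_mem i))) _ hxN, M.p_inv (M.T_norm (M.tau_mem i)), M.tau_p,
      hi, inv_mul_cancel])
  obtain ⟨v, hv⟩ := M.w_surj _ hA
  exact ⟨i, v, by rw [hv, mul_inv_cancel_left]⟩

theorem tau_mul (i j : Fin 4) : ∃ l s, Even4 s ∧ M.tau i * M.tau j = M.tau l * M.w s := by
  rcases eq_or_ne i 0 with rfl | hi
  · exact ⟨j, 0, by decide, by rw [M.tau_zero, M.w_zero, one_mul, mul_one]⟩
  rcases eq_or_ne j 0 with rfl | hj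
  · exact ⟨i, 0, by decide, by rw [M.tau_zero, M.w_zero]⟩
  rcases eq_or_ne i j with rfl | hij
  · exact ⟨0, 0, by decide, by rw [M.tau_sq, M.tau_zero, M.w_zero, one_mul]⟩
  obtain ⟨l, s, hs⟩ := M.exists_form (mul_mem (M.tau_mem i) (M.tau_mem j))
  refine ⟨l, s, ?_, hs⟩
  have hl : l ≠ 0 := by
    rintro rfl
    have h := congrArg M.p hs
    rw [M.tau_zero, one_mul, M.p_w, M.p_mul _ (M.T_norm (M.tau_mem i)) _ (M.T_norm (M.tau_mem j)),
      M.tau_p, M.tau_p] at h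
    exact hij (kl_inj i j (by rw [← mul_one (kl i), ← (kl_spec j).2.2.1, ← mul_assoc, h, one_mul]))
  refine (even4_iff_low l hl s).1 ?_
  set c := M.w (act (kl l) s + s) with hc
  have hcc : M.tau i * M.tau j * (M.tau i * M.tau j) = c := by rw [hc, ← M.form_sq, hs]
  have hci : c⁻¹ = c := M.w_inv _
  have hfix : ∀ t : G, t * t = 1 → t * c * t⁻¹ = c⁻¹ → t * c = c * t := fun t _ h =>
    mul_inv_eq_iff_eq_mul.1 (h.trans hci)
  refine low_of_fixed_two i j hi hj hij _ ?_ ?_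
  · rw [← M.tau_p i, ← M.commute_iff (M.T_norm (M.tau_mem i)), ← hc]
    refine hfix _ (M.tau_sq i) ?_
    rw [← hcc, mul_inv_rev, mul_inv_rev, M.tau_inv, M.tau_inv]
    simp only [← mul_assoc, M.tau_sq, one_mul]
  · rw [← M.tau_p j, ← M.commute_iff (M.T_norm (M.tau_mem j)), ← hc]
    refine hfix _ (M.tau_sq j) ?_
    rw [← hcc, mul_inv_rev, mul_inv_rev, M.tau_inv, M.tau_inv]
    simp only [mul_assoc, M.tau_sq, mul_one]

/-- The subgroup `T1` of index two in `T`. -/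
def T1 : Subgroup G where
  carrier := {x | ∃ i v, Even4 v ∧ x = M.tau i * M.w v}
  one_mem' := ⟨0, 0, by decide, by rw [M.tau_zero, M.w_zero, one_mul]⟩
  mul_mem' := by
    rintro _ _ ⟨i, u, hu, rfl⟩ ⟨j, v, hv, rfl⟩
    obtain ⟨l, s, hs, hls⟩ := M.tau_mul i j
    refine ⟨l, s + (act (kl j) u + v), even4_add _ _ hs (even4_add _ _ (even4_act j u hu) hv), ?_⟩
    rw [mul_assoc, ← mul_assoc (M.w u), M.w_tau, mul_assoc (M.tau j), ← mul_assoc (M.tau i), hls,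
      M.w_add, M.w_add, mul_assoc]
  inv_mem' := by
    rintro _ ⟨i, u, hu, rfl⟩
    exact ⟨i, act (kl i) u, even4_act i u hu, by rw [mul_inv_rev, M.tau_inv, M.w_inv, M.w_tau]⟩

theorem T1_le : M.T1 ≤ M.T := by
  rintro _ ⟨i, v, -, rfl⟩
  exact mul_mem (M.tau_mem i) (M.le_T (M.w_mem v))

theorem w_mem_T1 {v : V5} (hv : Even4 v) : M.w v ∈ M.T1 := ⟨0, v, hv, by rw [M.tau_zero, one_mul]⟩

theorem z_mem_T1 : M.z ∈ M.T1 := M.w_mem_T1 (by decide)

theorem tau_mem_T1 (i : Fin 4) : M.tau i ∈ M.T1 := ⟨i, 0, by decide, by rw [M.w_zero, mul_one]⟩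

theorem even_of_mem_T1 {v : V5} (h : M.w v ∈ M.T1) : Even4 v := by
  obtain ⟨i, u, hu, e⟩ := h
  have hi : i = 0 := (kl_spec i).2.2.2 (by
    have := congrArg M.p e
    rw [M.p_w, M.p_mul _ (M.T_norm (M.tau_mem i)) _ (M.w_memN u), M.p_w, mul_one, M.tau_p] at this
    exact this.symm)
  subst hi
  rw [M.tau_zero, one_mul, M.w_eq] at e
  exact (even4_eqv _ _ e).2 hu

theorem sq_T1 {x : G} (hx : x ∈ M.T1) : x * x = 1 ∨ x * x = M.z := by
  obtain ⟨i, v, hv, rfl⟩ := hx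
  rw [M.form_sq, M.w_one, M.w_eq]
  exact low_cases _ (low_act_add i v hv)

theorem inv_mem_T1 {x : G} (hx : x ∈ (M.T : Subgroup G)) (h2 : x * x = 1) (hA : x ∉ M.A) : x ∈ M.T1 := by
  obtain ⟨i, v, rfl⟩ := M.exists_form hx
  rcases eq_or_ne i 0 with rfl | hi
  · exact absurd (by rw [M.tau_zero, one_mul]; exact M.w_mem v) hA
  refine ⟨i, v, (even4_iff_low i hi v).1 ?_, rfl⟩
  rw [M.form_sq, M.w_one] at h2
  exact (low_eqv _ _ h2).2 (by decide)

theorem T1_or {x : G} (hx : x ∈ (M.T : Subgroup G)) : x ∈ M.T1 ∨ x * M.w (ev 0) ∈ M.T1 := by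
  obtain ⟨i, v, rfl⟩ := M.exists_form hx
  rcases even4_or v with h | h
  · exact Or.inl ⟨i, v, h, rfl⟩
  · exact Or.inr ⟨i, v + ev 0, h, by rw [mul_assoc, M.w_add]⟩

theorem z0_notMem : M.w (ev 0) ∉ M.T1 := fun h => absurd (M.even_of_mem_T1 h) (by decide)

end

end Model

end CfsgLib.A8Three
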