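import Cfsg.Agent.A8Three.Local
import Cfsg.Agent.A8Three.Model

/-!
# Existence of the model
-/

set_option autoImplicit false
set_option maxRecDepth 100000
set_option linter.style.haveILetI false
set_option linter.unusedSectionVars false

namespace CfsgLib.A8Three

open Subgroup Equiv

theorem dvd_card_of_no_fixed {α : Type*} [DecidableEq α] {q : ℕ} [Fact q.Prime] (σ : Perm α) (S : Finset α)
    (hS : ∀ x, σ x ∈ S ↔ x ∈ S) (hq : ∀ x ∈ S, (σ ^ q) x = x) (hfix : ∀ x ∈ S, σ x ≠ x) : q ∣ S.card := by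
  by_contra h
  obtain ⟨a, ha⟩ := Perm.exists_fixed_point_of_prime (p := q) (n := 1) (α := {x // x ∈ S})
    (by rwa [Fintype.card_coe]) (σ := σ.subtypePerm hS) (by
      ext ⟨x, hx⟩
      rw [pow_one, Perm.subtypePerm_pow, Perm.subtypePerm_apply, Perm.one_apply]
      exact hq x hx)
  exact hfix a a.2 (congrArg Subtype.val ha)

theorem order_five : ∃ π : Perm (Fin 5), Perm.sign π = 1 ∧ π ^ 5 = 1 ∧ π ≠ 1 :=
  ⟨finRotate 5, by decide +kernel, by decide +kernel, by decide +kernel⟩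

theorem invol_five : ∀ π : Perm (Fin 5), Perm.sign π = 1 → π * π = 1 → π ≠ 1 →
    ∃ σ : Perm (Fin 5), Perm.sign σ = 1 ∧ (π * (σ * π * σ⁻¹)) ^ 5 = 1 ∧ π * (σ * π * σ⁻¹) ≠ 1 := by
  decide +kernel

theorem invol_conj {π ρ : Perm (Fin 5)} (hπ : Perm.sign π = 1) (hπ2 : π * π = 1) (hπ1 : π ≠ 1)
    (hρ : Perm.sign ρ = 1) (hρ2 : ρ * ρ = 1) (hρ1 : ρ ≠ 1) :
    ∃ σ : Perm (Fin 5), Perm.sign σ = 1 ∧ σ * π * σ⁻¹ = ρ := by
  obtain ⟨a, ha, e⟩ := conj_kl π 1 hπ (by decide) hπ2 hπ1
  obtain ⟨b, hb, e'⟩ := conj_kl ρ 1 hρ (by decide) hρ2 hρ1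
  refine ⟨b⁻¹ * a, by rw [map_mul, map_inv, ha, hb, inv_one, one_mul], ?_⟩
  calc b⁻¹ * a * π * (b⁻¹ * a)⁻¹ = b⁻¹ * (a * π * a⁻¹) * b := by group
    _ = ρ := by rw [e, ← e']; group

theorem zmod_two_val : ∀ u v : ZMod 2,
    (u + v).val = u.val + v.val ∨ (u + v).val + 2 = u.val + v.val := by decide

theorem zero_ne_ones : (0 : V5) ≠ 1 := by decide

theorem eqv_zero_iff : ∀ v : V5, Eqv v 0 ↔ v = 0 ∨ v = 1 := by decide +kernel

theorem orbit_e0 : ∀ π : Perm (Fin 5), π = swap 0 4 * swap 1 2 →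
    Perm.sign π = 1 ∧ Eqv (act π (ev 0)) (ev 4) := by decide +kernel

theorem kl_four (π : Perm (Fin 5)) (k : ℕ) (hs : Perm.sign π = 1) (h4 : π 4 = 4) (h2 : π ^ 2 ^ k = 1) :
    ∃ i, π = kl i := by
  rcases kl_cases π hs h4 with h | h
  · exact ⟨0, eq_one_of_two_pow h2 ((show Odd 3 by decide).of_dvd_nat (orderOf_dvd_of_pow_eq_one (by rw [pow_succ, sq, h])))⟩
  · exact h

variable {G : Type*} [Group G] [Finite G] {A : Subgroup G} (L : Loc A)

/-- The map to `A₅` as a function. -/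
noncomputable def Loc.f (n : G) : Perm (Fin 5) := by
  classical
  exact if h : n ∈ normalizer (A : Set G) then L.ψ ⟨n, h⟩ else 1

theorem Loc.f_eq {n : G} (h : n ∈ normalizer (A : Set G)) : L.f n = L.ψ ⟨n, h⟩ := by
  classical
  simp [Loc.f, h]

theorem Loc.f_mul {m n : G} (hm : m ∈ normalizer (A : Set G)) (hn : n ∈ normalizer (A : Set G)) :
    L.f (m * n) = L.f m * L.f n := by
  rw [L.f_eq hm, L.f_eq hn, L.f_eq (mul_mem hm hn), ← map_mul]; rfl

theorem Loc.f_inv {n : G} (hn : n ∈ normalizer (A : Set G)) : L.f n⁻¹ = (L.f n)⁻¹ := by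
  rw [L.f_eq hn, L.f_eq (inv_mem hn), ← map_inv]; rfl

theorem Loc.f_pow {n : G} (hn : n ∈ normalizer (A : Set G)) (k : ℕ) : L.f (n ^ k) = L.f n ^ k := by
  rw [L.f_eq hn, L.f_eq (pow_mem hn k), ← map_pow]; rfl

theorem Loc.f_sign {n : G} (hn : n ∈ normalizer (A : Set G)) : Perm.sign (L.f n) = 1 := by
  rw [L.f_eq hn, ← Perm.mem_alternatingGroup, ← L.range]
  exact ⟨_, rfl⟩

theorem Loc.f_surj {π : Perm (Fin 5)} (h : Perm.sign π = 1) :
    ∃ n ∈ normalizer (A : Set G), L.f n = π := by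
  obtain ⟨⟨n, hn⟩, e⟩ : π ∈ L.ψ.range := by rw [L.range]; exact Perm.mem_alternatingGroup.2 h
  exact ⟨n, hn, (L.f_eq hn).trans e⟩

theorem Loc.f_one_iff {n : G} (hn : n ∈ normalizer (A : Set G)) :
    L.f n = 1 ↔ ∀ a ∈ A, n * a = a * n := by rw [L.f_eq hn, L.ker]

variable (hcomm : ∀ a ∈ A, ∀ b ∈ A, a * b = b * a) (hsq : ∀ a ∈ A, a * a = 1) (hA16 : Nat.card ↥A = 16)

include hsq in
theorem Loc.cent_two {n : G} (hn : n ∈ normalizer (A : Set G)) (h1 : L.f n = 1) {k : ℕ}
    (h2 : n ^ 2 ^ k = 1) : n ∈ A := by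
  obtain ⟨a, ha, o, ho, e⟩ := L.decomp ⟨n, hn⟩ ((L.f_eq hn).symm.trans h1)
  have e' : n = a * o := e
  subst e'
  have hc : Commute a o := (L.O_comm o ho a ha).symm
  have ho2 : o ^ (2 * 2 ^ k) = 1 := by
    have h4 : (a * o) ^ (2 * 2 ^ k) = 1 := by rw [mul_comm, pow_mul, h2, one_pow]
    rwa [hc.mul_pow, pow_mul a, sq, hsq a ha, one_pow, one_mul] at h4
  have := eq_one_of_two_pow (k := k + 1) (by rw [pow_succ', ho2]) (odd_orderOf_of_mem L.O_odd ho)
  rw [this, mul_one]; exact ha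

include hsq hA16 in
theorem Loc.fpf {n : G} (hn : n ∈ normalizer (A : Set G)) (h5 : L.f n ^ 5 = 1) (h1 : L.f n ≠ 1)
    {a : G} (ha : a ∈ A) (hna : n * a = a * n) : a = 1 := by
  classical
  haveI := Fintype.ofFinite G
  haveI : Fact (Nat.Prime 5) := ⟨Nat.prime_five⟩
  by_contra ha1
  let F : Subgroup G := A ⊓ centralizer ({n} : Set G)
  have hF : ∀ x, x ∈ F ↔ x ∈ A ∧ n * x = x * n := fun x => by
    rw [mem_inf, mem_centralizer_singleton_iff]; exact and_congr_right fun _ => eq_comm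
  let S : Finset G := Finset.univ.filter fun x => x ∈ A ∧ x ∉ F
  have hpow : L.f (n ^ 5) = 1 := by rw [L.f_pow hn, h5]
  have hdvd : 5 ∣ S.card := by
    refine dvd_card_of_no_fixed (MulAut.conj n).toEquiv S (fun x => ?_) (fun x hx => ?_) (fun x hx h => ?_)
    · simp only [S, Finset.mem_filter, Finset.mem_univ, true_and, hF, MulEquiv.toEquiv_eq_coe,
        EquivLike.coe_coe, MulAut.conj_apply]
      constructor
      · rintro ⟨h, h'⟩
        refine ⟨(mem_normalizer_iff.1 hn x).2 h, fun hh => h' ⟨h, ?_⟩⟩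
        rw [hh.2, mul_inv_cancel_right]
        exact hh.2
      · rintro ⟨h, h'⟩
        refine ⟨(mem_normalizer_iff.1 hn x).1 h, fun hh => h' ⟨h, ?_⟩⟩
        have := hh.2
        calc n * x = n⁻¹ * (n * (n * x * n⁻¹)) * n := by group
          _ = n⁻¹ * (n * x * n⁻¹ * n) * n := by rw [this]
          _ = _ := by group
    · have h : ∀ k : ℕ, (((MulAut.conj n).toEquiv ^ k : Perm G)) x = n ^ k * x * (n ^ k)⁻¹ := by
        intro k
        induction k with
        | zero => simp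
        | succ k ih =>
          rw [pow_succ', Perm.mul_apply, ih]
          simp [pow_succ', mul_assoc]
      rw [h, (L.f_one_iff (pow_mem hn 5)).1 hpow x (Finset.mem_filter.1 hx).2.1, mul_inv_cancel_right]
    · exact (Finset.mem_filter.1 hx).2.2 ((hF x).2 ⟨(Finset.mem_filter.1 hx).2.1,
        mul_inv_eq_iff_eq_mul.1 h⟩)
  have hsum : S.card + Nat.card F = 16 := by
    have hd : Disjoint S (Finset.univ.filter fun x => x ∈ F) := Finset.disjoint_filter.2 fun x _ h h' => h.2 h'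
    have hu : S ∪ (Finset.univ.filter fun x => x ∈ F) = Finset.univ.filter fun x => x ∈ A := by
      ext x
      simp only [S, Finset.mem_union, Finset.mem_filter, Finset.mem_univ, true_and]
      exact ⟨fun h => h.elim (fun h => h.1) (fun h => (mem_inf.1 h).1), fun h => by tauto⟩
    rw [← hA16, Nat.card_eq_fintype_card, Nat.card_eq_fintype_card, Fintype.card_subtype, Fintype.card_subtype,
      ← Finset.card_union_of_disjoint hd, hu]
  obtain ⟨d, hd⟩ := hdvd
  have hFd : Nat.card F ∣ 16 := hA16 ▸ Subgroup.card_dvd_of_le inf_le_left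
  have hF2 : 2 ≤ Nat.card F := (Subgroup.one_lt_card_iff_ne_bot F).2 fun h =>
    ha1 ((Subgroup.eq_bot_iff_forall _).1 h a ((hF a).2 ⟨ha, hna⟩))
  have hle := Nat.le_of_dvd (by norm_num) hFd
  obtain ⟨c, hc⟩ := hFd
  have h16 : Nat.card F = 16 := by
    interval_cases h : Nat.card F <;> omega
  refine h1 ((L.f_one_iff hn).2 fun x hx => ((hF x).1 ?_).2)
  rw [show F = A from Subgroup.eq_of_le_of_card_ge inf_le_left (by rw [hA16, h16])]
  exact hx

include hcomm hsq hA16 in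
theorem Loc.outside_conj {x y : G} (hx : x ∈ normalizer (A : Set G)) (hy : y ∈ normalizer (A : Set G))
    (hx2 : x * x = 1) (hy2 : y * y = 1) (hx1 : L.f x ≠ 1) (hy1 : L.f y ≠ 1) : IsConj x y := by
  classical
  have hfx : L.f x * L.f x = 1 := by rw [← L.f_mul hx hx, hx2, (L.f_one_iff (one_mem _)).2 (by simp)]
  have hfy : L.f y * L.f y = 1 := by rw [← L.f_mul hy hy, hy2, (L.f_one_iff (one_mem _)).2 (by simp)]
  obtain ⟨σ, hσ, e⟩ := invol_conj (L.f_sign hy) hfy hy1 (L.f_sign hx) hfx hx1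
  obtain ⟨n, hn, rfl⟩ := L.f_surj hσ
  set y' := n * y * n⁻¹ with hy'
  have hy'N : y' ∈ normalizer (A : Set G) := mul_mem (mul_mem hn hy) (inv_mem hn)
  have hd : L.f (x * y') = 1 := by
    rw [L.f_mul hx hy'N, L.f_mul (mul_mem hn hy) (inv_mem hn), L.f_mul hn hy, L.f_inv hn, e, hfx]
  obtain ⟨a, ha, o, ho, hao⟩ := L.decomp ⟨_, mul_mem hx hy'N⟩ ((L.f_eq _).symm.trans hd)
  have hao' : y' = x * a * o := by
    rw [mul_assoc, ← (show x * y' = a * o from hao), ← mul_assoc, hx2, one_mul]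
  set u := x * a with hu
  have huN : u ∈ normalizer (A : Set G) := mul_mem hx (Subgroup.le_normalizer ha)
  have hxi : x⁻¹ = x := inv_eq_of_mul_eq_one_right hx2
  have huu : u * u ∈ A := by
    have h := (mem_normalizer_iff.1 hx a).1 ha
    rw [hxi] at h
    rw [hu, show x * a * (x * a) = x * a * x * a by group]
    exact mul_mem h ha
  have hy'2 : y' * y' = 1 := by
    rw [hy']
    calc n * y * n⁻¹ * (n * y * n⁻¹) = n * (y * y) * n⁻¹ := by group
      _ = 1 := by rw [hy2]; group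
  have hO : u⁻¹ * o * u * o ∈ L.O := by
    have := L.O_conj u⁻¹ (inv_mem huN) o ho
    rw [inv_inv] at this
    exact mul_mem this ho
  have hz : (u * u) * (u⁻¹ * o * u * o) = 1 := by
    rw [← hy'2, hao']; group
  have hu2 : u * u = 1 := by
    have hm : u * u ∈ L.O := by rw [mul_eq_one_iff_eq_inv.1 hz]; exact inv_mem hO
    exact eq_one_of_two_pow (k := 1) (by rw [pow_one, sq, hsq _ huu]) (odd_orderOf_of_mem L.O_odd hm)
  rw [hu2, one_mul] at hz
  have huo : u⁻¹ * o * u = o⁻¹ := mul_eq_one_iff_eq_inv.1 hz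
  obtain ⟨k, hk⟩ := odd_orderOf_of_mem L.O_odd ho
  set d := o ^ (k + 1) with hd'
  have hdd : d * d = o := by
    rw [hd', ← pow_add, show k + 1 + (k + 1) = orderOf o + 1 by omega, pow_succ, pow_orderOf_eq_one, one_mul]
  have hdu : u⁻¹ * d * u = d⁻¹ := by
    have h := conj_pow (i := k + 1) (a := u⁻¹) (b := o)
    rw [inv_inv] at h
    rw [hd', ← h, huo, inv_pow]
  have hdu' : d⁻¹ * u = u * d := by
    calc d⁻¹ * u = (u⁻¹ * d * u) * u := by rw [hdu]
      _ = u⁻¹ * d * (u * u) := by group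
      _ = u * d := by rw [hu2, mul_one, inv_eq_of_mul_eq_one_right hu2]
  -- `u` is conjugate to `x` by `A`
  have hxA : ∀ b ∈ A, x * b * x ∈ A := fun b hb => by
    have := (mem_normalizer_iff.1 hx b).1 hb
    rwa [hxi] at this
  obtain ⟨σ', hσ', h5, h51⟩ := invol_five _ (L.f_sign hx) hfx hx1
  obtain ⟨m, hm, rfl⟩ := L.f_surj hσ'
  set s := m * x * m⁻¹ with hs
  have hsN : s ∈ normalizer (A : Set G) := mul_mem (mul_mem hm hx) (inv_mem hm)
  let F : Subgroup G := A ⊓ centralizer ({x} : Set G)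
  let F' : Subgroup G := A ⊓ centralizer ({s} : Set G)
  have hFF : Nat.card F' = Nat.card F := by
    refine (Nat.card_congr (Equiv.subtypeEquiv (MulAut.conj m).toEquiv (fun b => ?_))).symm
    simp only [F, F', mem_inf, mem_centralizer_singleton_iff, MulEquiv.toEquiv_eq_coe, EquivLike.coe_coe,
      MulAut.conj_apply]
    refine and_congr (mem_normalizer_iff.1 hm b) ?_
    rw [hs]
    constructor
    · intro h
      calc m * b * m⁻¹ * (m * x * m⁻¹) = m * (b * x) * m⁻¹ := by group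
        _ = m * (x * b) * m⁻¹ := by rw [h]
        _ = _ := by group
    · intro h
      calc b * x = m⁻¹ * (m * b * m⁻¹ * (m * x * m⁻¹)) * m := by group
        _ = m⁻¹ * (m * x * m⁻¹ * (m * b * m⁻¹)) * m := by rw [h]
        _ = _ := by group
  have hcap : ∀ b, b ∈ F → b ∈ F' → b = 1 := by
    intro b hb hb'
    refine L.fpf hsq hA16 (mul_mem hx hsN) ?_ ?_ (mem_inf.1 hb).1 ?_
    · rw [L.f_mul hx hsN, hs, L.f_mul (mul_mem hm hx) (inv_mem hm), L.f_mul hm hx, L.f_inv hm]; exact h5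
    · rw [L.f_mul hx hsN, hs, L.f_mul (mul_mem hm hx) (inv_mem hm), L.f_mul hm hx, L.f_inv hm]; exact h51
    · exact ((Commute.mul_right (mem_centralizer_singleton_iff.1 (mem_inf.1 hb).2)
        (mem_centralizer_singleton_iff.1 (mem_inf.1 hb').2)).eq).symm
  have hFle : Nat.card F ≤ 4 := by
    have h := Nat.card_le_card_of_injective (fun q : F × F' => (⟨(q.1 : G) * q.2,
      mul_mem (mem_inf.1 q.1.2).1 (mem_inf.1 q.2.2).1⟩ : A)) fun q r h => by
        have h' : (q.1 : G) * q.2 = r.1 * r.2 := congrArg Subtype.val h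
        have he : (r.1 : G)⁻¹ * q.1 = r.2 * (q.2 : G)⁻¹ := by
          rw [eq_mul_inv_iff_mul_eq, mul_assoc, h', inv_mul_cancel_left]
        have h1 := hcap _ (mul_mem (inv_mem r.1.2) q.1.2) (he ▸ mul_mem r.2.2 (inv_mem q.2.2))
        rw [h1, eq_comm, mul_inv_eq_one] at he
        exact Prod.ext (Subtype.ext (inv_mul_eq_one.1 h1).symm) (Subtype.ext he.symm)
    rw [Nat.card_prod, hFF, hA16] at h
    by_contra hc
    have : 5 * 5 ≤ Nat.card F * Nat.card F := Nat.mul_le_mul (by omega) (by omega)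
    omega
  let δ : A →* G :=
    { toFun := fun b => b * (x * b * x)
      map_one' := by simp [hx2]
      map_mul' := fun b c => by
        simp only [Subgroup.coe_mul]
        rw [show x * ((b : G) * c) * x = x * b * (x * x) * c * x by rw [hx2, mul_one]; group,
          show (b : G) * c * (x * b * (x * x) * c * x) = b * (c * (x * b * x)) * (x * c * x) by group,
          hcomm _ c.2 _ (hxA _ b.2)]
        group }
  have hker : δ.ker = F.subgroupOf A := by
    ext b
    rw [MonoidHom.mem_ker, mem_subgroupOf, mem_inf, mem_centralizer_singleton_iff]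
    show (b : G) * (x * b * x) = 1 ↔ _
    rw [mul_eq_one_iff_eq_inv, eq_comm, inv_eq_iff_eq_inv, eq_comm]
    have hbi : (b : G)⁻¹ = b := inv_eq_of_mul_eq_one_right (hsq _ b.2)
    constructor
    · intro h
      refine ⟨b.2, ?_⟩
      have h2 : x * b * x = b := h ▸ hbi
      calc (b : G) * x = x * b * x * x := by rw [h2]
        _ = x * b := by rw [mul_assoc _ x x, hx2, mul_one]
    · rintro ⟨-, h⟩
      have h2 : x * b * x = b := by rw [← h, mul_assoc, hx2, mul_one]
      rw [h2, hbi]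
  have hrange : δ.range ≤ F := by
    rintro _ ⟨b, rfl⟩
    refine mem_inf.2 ⟨mul_mem b.2 (hxA _ b.2), mem_centralizer_singleton_iff.2 ?_⟩
    show (b : G) * (x * b * x) * x = x * ((b : G) * (x * b * x))
    rw [hcomm _ b.2 _ (hxA _ b.2)]
    calc x * (b : G) * x * b * x = x * (b : G) * x * b * x := rfl
      _ = x * ((b : G) * x * b * x) := by group
      _ = x * (x * b * x * b) := by
          rw [show (b : G) * x * b * x = b * (x * b * x) by group, hcomm _ b.2 _ (hxA _ b.2)]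
      _ = _ := by group
  have hau : a ∈ δ.range := by
    have hFa : a ∈ F := by
      refine mem_inf.2 ⟨ha, mem_centralizer_singleton_iff.2 ?_⟩
      have h : x * a * (x * a) = 1 := hu2
      calc a * x = x * (x * a * (x * a)) * a⁻¹ := by
            rw [← mul_assoc, ← mul_assoc, ← mul_assoc, hx2, one_mul, mul_inv_cancel_right]
        _ = x * a := by rw [h, mul_one, inv_eq_of_mul_eq_one_right (hsq a ha)]
    rw [show δ.range = F from Subgroup.eq_of_le_of_card_ge hrange ?_]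
    · exact hFa
    · have h := Subgroup.card_mul_index δ.ker
      rw [Subgroup.index_ker, hker, Nat.card_congr (subgroupOfEquivOfLe (inf_le_left : F ≤ A)).toEquiv, hA16] at h
      have : Nat.card F * Nat.card F ≤ 4 * 4 := Nat.mul_le_mul hFle hFle
      by_contra hc
      nlinarith [Nat.card_pos (α := F)]
  obtain ⟨b, hb⟩ := hau
  have hub : u = (b : G) * x * (b : G)⁻¹ := by
    rw [inv_eq_of_mul_eq_one_right (hsq _ b.2), hu, ← hb]
    show x * ((b : G) * (x * b * x)) = _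
    rw [hcomm _ b.2 _ (hxA _ b.2), ← mul_assoc, ← mul_assoc, ← mul_assoc, hx2, one_mul]
  have hyd : y' = d⁻¹ * u * d := by rw [hao', ← hdd, hdu']; group
  refine isConj_iff.2 ⟨n⁻¹ * d⁻¹ * b, ?_⟩
  calc n⁻¹ * d⁻¹ * (b : G) * x * (n⁻¹ * d⁻¹ * (b : G))⁻¹ = n⁻¹ * (d⁻¹ * ((b : G) * x * (b : G)⁻¹) * d) * n := by group
    _ = n⁻¹ * y' * n := by rw [← hub, ← hyd]
    _ = y := by rw [hy']; group

theorem three_le_reps (h3 : Nat.card {c : ConjClasses G // ∃ x ∈ c.carrier, orderOf x = 2} = 3)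
    (R : Finset G) (hR : ∀ x : G, orderOf x = 2 → ∃ r ∈ R, IsConj x r) : 3 ≤ R.card := by
  classical
  haveI := Fintype.ofFinite G
  rw [← h3]
  let T := {c : ConjClasses G // ∃ x ∈ c.carrier, orderOf x = 2}
  have hmem : ∀ c : T, ∃ r ∈ R, ConjClasses.mk r = c.1 := by
    rintro ⟨c, x, hx, hxo⟩
    obtain ⟨r, hr, hxr⟩ := hR x hxo
    exact ⟨r, hr, (ConjClasses.mk_eq_mk_iff_isConj.2 hxr.symm).trans (ConjClasses.mem_carrier_iff_mk_eq.1 hx)⟩
  choose r hr hrc using hmem
  have h := Nat.card_le_card_of_injective (fun c : T => (⟨r c, hr c⟩ : {x // x ∈ R}))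
    fun c c' e => Subtype.ext (by rw [← hrc c, ← hrc c']; exact congrArg (fun q : {x // x ∈ R} => ConjClasses.mk q.1) e)
  rwa [Nat.card_eq_fintype_card (α := {x // x ∈ R}), Fintype.card_coe] at h

theorem exists_model (S : Sylow 2 G) (P : Sylow 2 ↥(alternatingGroup (Fin 8)))
    (hS : Nonempty (↥(S : Subgroup G) ≃* ↥(P : Subgroup ↥(alternatingGroup (Fin 8)))))
    (h3 : Nat.card {c : ConjClasses G // ∃ x ∈ c.carrier, orderOf x = 2} = 3)
    (hcomm : ∀ a ∈ A, ∀ b ∈ A, a * b = b * a) (hsq : ∀ a ∈ A, a * a = 1) (hA16 : Nat.card ↥A = 16)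
    (L : Loc A) : ∃ M : Model G, M.A = A := by
  classical
  haveI := Fintype.ofFinite G
  haveI : Fact (Nat.Prime 2) := ⟨Nat.prime_two⟩
  haveI : Fact (Nat.Prime 5) := ⟨Nat.prime_five⟩
  set N := normalizer (A : Set G) with hNdef
  have hAN : A ≤ N := le_normalizer
  have hTA : ∀ x ∈ (L.T : Subgroup G), x * x = 1 → x ∉ A → L.f x ≠ 1 := fun x hx h2 hxA h1 =>
    hxA (L.cent_two hsq (L.T_le hx) h1 (k := 1) (by rw [pow_one, sq, h2]))
  -- a representative of the involutions outside `A`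
  let out : Prop := ∃ x ∈ (L.T : Subgroup G), x * x = 1 ∧ x ∉ A
  have hcov : ∀ (R : Finset G), (∀ a ∈ A, a ≠ 1 → ∃ r ∈ R, IsConj a r) →
      (∀ x ∈ (L.T : Subgroup G), x * x = 1 → x ∉ A → ∃ r ∈ R, IsConj x r) → 3 ≤ R.card := by
    intro R h1 h2
    refine three_le_reps h3 R fun x hx => ?_
    have hp : IsPGroup 2 (zpowers x) := IsPGroup.of_card (n := 1) (by rw [Nat.card_zpowers, hx, pow_one])
    obtain ⟨Q, hQ⟩ := hp.exists_le_sylow
    obtain ⟨g, hg⟩ := MulAction.exists_smul_eq G Q L.T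
    have hgx : g * x * g⁻¹ ∈ (L.T : Subgroup G) := by rw [← hg]; exact ⟨x, hQ (mem_zpowers x), rfl⟩
    have hxg : IsConj x (g * x * g⁻¹) := isConj_iff.2 ⟨g, rfl⟩
    have hgo : orderOf (g * x * g⁻¹) = 2 := by rw [Small.orderOf_conj_eq, hx]
    have hg2 := Small.mul_self_of_orderOf_two hgo
    obtain ⟨r, hr, h⟩ : ∃ r ∈ R, IsConj (g * x * g⁻¹) r := by
      by_cases hA : g * x * g⁻¹ ∈ A
      · exact h1 _ hA (Small.ne_one_of_orderOf_two hgo)
      · exact h2 _ hgx hg2 hA
    exact ⟨r, hr, hxg.trans h⟩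
  have houtc : ∀ x₀ ∈ (L.T : Subgroup G), x₀ * x₀ = 1 → x₀ ∉ A → ∀ x ∈ (L.T : Subgroup G), x * x = 1 →
      x ∉ A → IsConj x x₀ := fun x₀ h₀ h₀2 h₀A x hx hx2 hxA =>
    L.outside_conj hcomm hsq hA16 (L.T_le hx) (L.T_le h₀) hx2 h₀2 (hTA x hx hx2 hxA) (hTA x₀ h₀ h₀2 h₀A)
  -- few representatives contradict three classes
  have htwo : ∀ a₀ : G, ¬ ∀ a ∈ A, a ≠ 1 → IsConj a a₀ := by
    intro a₀ h
    by_cases ho : out
    · obtain ⟨x₀, h₀, h₀2, h₀A⟩ := ho
      have := (hcov {a₀, x₀} (fun a ha ha1 => ⟨a₀, by simp, h a ha ha1⟩)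
        (fun x hx hx2 hxA => ⟨x₀, by simp, houtc x₀ h₀ h₀2 h₀A x hx hx2 hxA⟩)).trans Finset.card_le_two
      omega
    · have := hcov {a₀} (fun a ha ha1 => ⟨a₀, by simp, h a ha ha1⟩)
        (fun x hx hx2 hxA => absurd ⟨x, hx, hx2, hxA⟩ ho)
      simp at this
  obtain ⟨π5, hπ5s, hπ5, hπ51⟩ := order_five
  obtain ⟨n5, hn5, hn5f⟩ := L.f_surj hπ5s
  have hfpf : ∀ a ∈ A, n5 * a = a * n5 → a = 1 := fun a ha h =>
    L.fpf hsq hA16 hn5 (by rw [hn5f, hπ5]) (by rw [hn5f]; exact hπ51) ha h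
  have hdvd : ∀ U : Finset G, (∀ c ∈ U, c ∈ A ∧ c ≠ 1) → (∀ c, n5 * c * n5⁻¹ ∈ U ↔ c ∈ U) → 5 ∣ U.card := by
    intro U hU hinv
    refine dvd_card_of_no_fixed (MulAut.conj n5).toEquiv U (fun c => hinv c) (fun c hc => ?_)
      (fun c hc h => (hU c hc).2 (hfpf c (hU c hc).1 (mul_inv_eq_iff_eq_mul.1 h)))
    have h : ∀ k : ℕ, (((MulAut.conj n5).toEquiv ^ k : Perm G)) c = n5 ^ k * c * (n5 ^ k)⁻¹ := by
      intro k
      induction k with
      | zero => simp
      | succ k ih =>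
        rw [pow_succ', Perm.mul_apply, ih]
        simp [pow_succ', mul_assoc]
    rw [h, (L.f_one_iff (pow_mem hn5 5)).1 (by rw [L.f_pow hn5, hn5f, hπ5]) c (hU c hc).1, mul_inv_cancel_right]
  let orb : G → Finset G := fun a => Finset.univ.filter fun c => ∃ n ∈ N, n * a * n⁻¹ = c
  have horb : ∀ {a c : G}, c ∈ orb a ↔ ∃ n ∈ N, n * a * n⁻¹ = c := fun {a c} => by simp [orb]
  have horbA : ∀ a ∈ A, a ≠ 1 → ∀ c ∈ orb a, c ∈ A ∧ c ≠ 1 := by
    intro a ha ha1 c hc
    obtain ⟨n, hn, rfl⟩ := horb.1 hc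
    exact ⟨(mem_normalizer_iff.1 hn a).1 ha, fun h => ha1 (conj_eq_one_iff.1 h)⟩
  have horbN : ∀ {a : G}, ∀ n ∈ N, ∀ c, n * c * n⁻¹ ∈ orb a ↔ c ∈ orb a := by
    intro a n hn c
    constructor
    · intro h
      obtain ⟨m, hm, e⟩ := horb.1 h
      refine horb.2 ⟨n⁻¹ * m, mul_mem (inv_mem hn) hm, ?_⟩
      calc n⁻¹ * m * a * (n⁻¹ * m)⁻¹ = n⁻¹ * (m * a * m⁻¹) * n := by group
        _ = c := by rw [e]; group
    · intro h
      obtain ⟨m, hm, e⟩ := horb.1 h
      refine horb.2 ⟨n * m, mul_mem hn hm, ?_⟩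
      rw [← e]; group
  obtain ⟨a₀, ha₀, ha₀1, ho5⟩ : ∃ a ∈ A, a ≠ 1 ∧ (orb a).card = 5 := by
    obtain ⟨a, ha, ha1⟩ : ∃ a ∈ A, a ≠ 1 := by
      by_contra! h
      have : A = ⊥ := (Subgroup.eq_bot_iff_forall A).2 h
      rw [this, Subgroup.card_bot] at hA16
      omega
    have hnot := htwo a
    push Not at hnot
    obtain ⟨b, hb, hb1, hba⟩ := hnot
    have hpos : ∀ c : G, 0 < (orb c).card := fun c => Finset.card_pos.2 ⟨c, horb.2 ⟨1, one_mem _, by group⟩⟩
    have hdis : Disjoint (orb a) (orb b) := Finset.disjoint_left.2 fun c hc hc' => by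
      obtain ⟨n, hn, e⟩ := horb.1 hc
      obtain ⟨m, hm, e'⟩ := horb.1 hc'
      exact hba ((isConj_iff.2 ⟨m, e'⟩).trans (isConj_iff.2 ⟨n, e⟩).symm)
    have hle : (orb a ∪ orb b).card ≤ 15 := by
      have hsub : orb a ∪ orb b ⊆ (Finset.univ.filter fun c => c ∈ A).erase 1 := fun c hc => by
        have h := (Finset.mem_union.1 hc).elim (horbA a ha ha1 c) (horbA b hb hb1 c)
        exact Finset.mem_erase.2 ⟨h.2, Finset.mem_filter.2 ⟨Finset.mem_univ c, h.1⟩⟩
      refine (Finset.card_le_card hsub).trans ?_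
      rw [Finset.card_erase_of_mem (by simp), ← Fintype.card_subtype, ← Nat.card_eq_fintype_card, hA16]
    rw [Finset.card_union_of_disjoint hdis] at hle
    obtain ⟨k, hk⟩ := hdvd (orb a) (horbA a ha ha1) (horbN n5 hn5)
    obtain ⟨l, hl⟩ := hdvd (orb b) (horbA b hb hb1) (horbN n5 hn5)
    have := hpos a
    have := hpos b
    rcases (show k = 1 ∨ l = 1 by omega) with h | h
    · exact ⟨a, ha, ha1, by omega⟩
    · exact ⟨b, hb, hb1, by omega⟩
  set O5 := orb a₀ with hO5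
  have hO5A := horbA a₀ ha₀ ha₀1
  -- the point fixed by `T`
  letI : MulAction (L.T : Subgroup G) {c // c ∈ O5} :=
    { smul := fun t c => ⟨(t : G) * c * (t : G)⁻¹, (horbN (t : G) (L.T_le t.2) c).2 c.2⟩
      one_smul := fun c => Subtype.ext (show ((1 : (L.T : Subgroup G)) : G) * c * ((1 : (L.T : Subgroup G)) : G)⁻¹ = c by simp)
      mul_smul := fun s t c => Subtype.ext (show ((s * t : (L.T : Subgroup G)) : G) * c * ((s * t : (L.T : Subgroup G)) : G)⁻¹ =
        (s : G) * ((t : G) * c * (t : G)⁻¹) * (s : G)⁻¹ by rw [Subgroup.coe_mul]; group) }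
  obtain ⟨c₄, hc₄⟩ := L.T.isPGroup'.nonempty_fixed_point_of_prime_not_dvd_card {c // c ∈ O5} (by
    rw [Nat.card_eq_fintype_card, Fintype.card_coe, ho5]; norm_num)
  let e₀ : Fin 5 ≃ {c // c ∈ O5} := (finCongr ho5.symm).trans O5.equivFin.symm
  let e : Fin 5 ≃ {c // c ∈ O5} := (swap 4 (e₀.symm c₄)).trans e₀
  have he4 : e 4 = c₄ := by simp [e]
  let sm : N → Perm {c // c ∈ O5} := fun n =>
    { toFun := fun c => ⟨(n : G) * c * (n : G)⁻¹, (horbN (n : G) n.2 c).2 c.2⟩
      invFun := fun c => ⟨(n : G)⁻¹ * c * (n : G), by simpa using (horbN (n : G)⁻¹ (inv_mem n.2) c).2 c.2⟩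
      left_inv := fun c => Subtype.ext (show (n : G)⁻¹ * ((n : G) * c * (n : G)⁻¹) * n = c by group)
      right_inv := fun c => Subtype.ext (show (n : G) * ((n : G)⁻¹ * c * n) * (n : G)⁻¹ = c by group) }
  let q : N →* Perm (Fin 5) :=
    { toFun := fun n => (e.trans (sm n)).trans e.symm
      map_one' := by ext i; simp [sm]
      map_mul' := fun m n => by
        ext i
        simp only [sm, Perm.mul_apply, Equiv.trans_apply, Equiv.coe_fn_mk, Equiv.apply_symm_apply]
        congr 2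
        exact Subtype.ext (by simp only [Subgroup.coe_mul]; group) }
  have hq : ∀ (n : N) i, (e (q n i) : G) = (n : G) * e i * (n : G)⁻¹ := fun n i => by simp [q, sm]
  have hqT : ∀ n : N, (n : G) ∈ (L.T : Subgroup G) → q n 4 = 4 := fun n hn => by
    refine e.injective (Subtype.ext ?_)
    rw [hq, he4]
    exact congrArg Subtype.val (hc₄ ⟨n, hn⟩)
  -- the module map
  letI : CommGroup A := { (inferInstance : Group A) with mul_comm := fun a b => Subtype.ext (hcomm _ a.2 _ b.2) }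
  let zA : Fin 5 → A := fun i => ⟨e i, (hO5A _ (e i).2).1⟩
  have hzA : ∀ i, zA i ^ 2 = 1 := fun i => Subtype.ext (by rw [Subgroup.coe_pow, sq]; exact hsq _ (zA i).2)
  let W : Multiplicative V5 →* A :=
    { toFun := fun v => ∏ i, zA i ^ ((v.toAdd) i).val
      map_one' := by simp
      map_mul' := fun u v => by
        rw [← Finset.prod_mul_distrib]
        refine Finset.prod_congr rfl fun i _ => ?_
        rw [toAdd_mul, Pi.add_apply, ← pow_add]
        rcases zmod_two_val (u.toAdd i) (v.toAdd i) with h | h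
        · rw [h]
        · rw [← h, pow_add, hzA, mul_one] }
  let w : V5 → G := fun v => (W (Multiplicative.ofAdd v) : G)
  have hw_add : ∀ u v, w (u + v) = w u * w v := fun u v => by
    show ((W (Multiplicative.ofAdd u * Multiplicative.ofAdd v) : A) : G) = _
    rw [map_mul]; rfl
  have hconjW : ∀ (n : N) (v : V5), (n : G) * w v * (n : G)⁻¹ = w (act (q n) v) := by
    intro n v
    let c : A →* A :=
      { toFun := fun a => ⟨(n : G) * a * (n : G)⁻¹, (mem_normalizer_iff.1 n.2 a).1 a.2⟩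
        map_one' := Subtype.ext (by simp)
        map_mul' := fun a b => Subtype.ext (show (n : G) * ((a : G) * b) * (n : G)⁻¹ =
          (n : G) * a * (n : G)⁻¹ * ((n : G) * b * (n : G)⁻¹) by group) }
    have hcz : ∀ i, c (zA i) = zA (q n i) := fun i => Subtype.ext (hq n i).symm
    show ((c (∏ i, zA i ^ (v i).val) : A) : G) = _
    rw [map_prod]
    refine congrArg Subtype.val ?_
    show (∏ i, c (zA i ^ (v i).val)) = ∏ i, zA i ^ (act (q n) v i).val
    rw [← Equiv.prod_comp (q n) (fun i => zA i ^ (act (q n) v i).val)]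
    exact Finset.prod_congr rfl fun i _ => by rw [map_pow, hcz]; simp [act]
  have hWsurj : Function.Surjective W := by
    rw [← MonoidHom.range_eq_top]
    refine Subgroup.eq_top_of_card_eq _ ?_
    rw [hA16]
    have hd : Nat.card W.range ∣ 16 := hA16 ▸ Subgroup.card_subgroup_dvd_card _
    let U : Finset G := Finset.univ.filter fun c => c ∈ W.range.map A.subtype ∧ c ≠ 1
    have h5 : 5 ∣ U.card := by
      refine hdvd U (fun c hc => ?_) (fun c => ?_)
      · obtain ⟨h, h1⟩ := (Finset.mem_filter.1 hc).2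
        exact ⟨map_subtype_le _ h, h1⟩
      · simp only [U, Finset.mem_filter, Finset.mem_univ, true_and, ne_eq, conj_eq_one_iff]
        refine and_congr_left fun _ => ⟨?_, ?_⟩
        · rintro ⟨_, ⟨v, rfl⟩, e'⟩
          refine ⟨_, ⟨Multiplicative.ofAdd (act (q ⟨n5, hn5⟩⁻¹) v.toAdd), rfl⟩, ?_⟩
          show w (act (q ⟨n5, hn5⟩⁻¹) v.toAdd) = c
          rw [← hconjW]
          have e'' : w v.toAdd = n5 * c * n5⁻¹ := e'
          rw [e'', Subgroup.coe_inv]; group
        · rintro ⟨_, ⟨v, rfl⟩, rfl⟩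
          refine ⟨_, ⟨Multiplicative.ofAdd (act (q ⟨n5, hn5⟩) v.toAdd), rfl⟩, ?_⟩
          show w (act (q ⟨n5, hn5⟩) v.toAdd) = n5 * w v.toAdd * n5⁻¹
          rw [← hconjW]
    have hU : U.card + 1 = Nat.card W.range := by
      have h1 : (1 : G) ∈ Finset.univ.filter fun c => c ∈ W.range.map A.subtype :=
        Finset.mem_filter.2 ⟨Finset.mem_univ _, one_mem _⟩
      rw [← Subgroup.card_map_of_injective (f := A.subtype) A.subtype_injective, Nat.card_eq_fintype_card,
        Fintype.card_subtype, ← Finset.card_erase_add_one h1]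
      congr 2
      ext c; simp [U, and_comm]
    have hne : 2 ≤ Nat.card W.range := by
      have hmem : zA 0 ∈ W.range := ⟨Multiplicative.ofAdd (ev 0), by
        show ∏ i, zA i ^ (ev 0 i).val = zA 0
        rw [Finset.prod_eq_single 0]
        · simp [ev, ZMod.val_one]
        · intro i _ hi; simp [ev, hi]
        · simp⟩
      exact (Subgroup.one_lt_card_iff_ne_bot W.range).2 fun h => (hO5A _ (e 0).2).2
        (congrArg Subtype.val ((Subgroup.eq_bot_iff_forall _).1 h _ hmem))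
    have hle := Nat.le_of_dvd (by norm_num) hd
    obtain ⟨d, hd'⟩ := hd
    obtain ⟨c, hc⟩ := h5
    interval_cases h : Nat.card W.range <;> omega
  have hw_surj : ∀ a ∈ A, ∃ v, w v = a := fun a ha => by
    obtain ⟨v, hv⟩ := hWsurj ⟨a, ha⟩
    exact ⟨v.toAdd, congrArg Subtype.val hv⟩
  have hqker : ∀ n : N, q n = 1 ↔ ∀ a ∈ A, (n : G) * a = a * n := by
    intro n
    constructor
    · intro h a ha
      obtain ⟨v, rfl⟩ := hw_surj a ha
      refine mul_inv_eq_iff_eq_mul.1 ?_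
      rw [hconjW, h]
      rfl
    · intro h
      ext i
      refine congrArg Fin.val (e.injective (Subtype.ext ?_))
      rw [hq, h _ (hO5A _ (e i).2).1, mul_inv_cancel_right]
      rfl
  have hqrange : q.range = alternatingGroup (Fin 5) := by
    refine Perm.eq_alternatingGroup_of_index_eq_two ?_
    have hk : q.ker = L.ψ.ker := by
      ext n
      rw [MonoidHom.mem_ker, MonoidHom.mem_ker, hqker, L.ker]
    have hc : Nat.card q.range = Nat.card L.ψ.range := by rw [← Subgroup.index_ker, ← Subgroup.index_ker, hk]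
    have h := Subgroup.card_mul_index q.range
    rw [hc, L.range, nat_card_alternatingGroup, Nat.card_perm, Nat.card_fin] at h
    norm_num [Nat.factorial] at h
    omega
  let p : G → Perm (Fin 5) := fun n => if h : n ∈ N then q ⟨n, h⟩ else 1
  have hp : ∀ {n : G} (h : n ∈ N), p n = q ⟨n, h⟩ := fun h => by simp [p, h]
  have hwone : ∀ v, w v = 1 ↔ Eqv v 0 := by
    have h1 : w 1 = 1 := by
      refine hfpf _ (W _).2 (mul_inv_eq_iff_eq_mul.1 ?_)
      rw [show n5 = ((⟨n5, hn5⟩ : N) : G) from rfl, hconjW]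
      rfl
    have hker : Nat.card W.ker = 2 := by
      have h := Subgroup.card_mul_index W.ker
      rw [Subgroup.index_ker, MonoidHom.range_eq_top.2 hWsurj, Subgroup.card_top, hA16,
        Nat.card_congr Multiplicative.toAdd] at h
      have h32 : Nat.card V5 = 32 := by rw [Nat.card_fun, Nat.card_zmod, Nat.card_fin]; rfl
      rw [h32] at h
      omega
    intro v
    rw [eqv_zero_iff]
    constructor
    · intro hv
      obtain ⟨x, y, -, huniv⟩ := Nat.card_eq_two_iff.1 hker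
      let k0 : W.ker := ⟨Multiplicative.ofAdd 0, map_one W⟩
      let k1 : W.ker := ⟨Multiplicative.ofAdd 1, Subtype.ext h1⟩
      let kv : W.ker := ⟨Multiplicative.ofAdd v, Subtype.ext hv⟩
      have hk : k0 ≠ k1 := fun h => zero_ne_ones (congrArg (fun k : W.ker => (k : Multiplicative V5).toAdd) h)
      have hm : ∀ k : W.ker, k = x ∨ k = y := fun k => by
        have : k ∈ ({x, y} : Set W.ker) := huniv ▸ Set.mem_univ k
        simpa using this
      rcases hm k0, hm k1, hm kv with ⟨h0 | h0, h1' | h1', hv' | hv'⟩ <;>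
        first
          | exact absurd (h0.trans h1'.symm) hk
          | exact Or.inl (congrArg (fun k : W.ker => (k : Multiplicative V5).toAdd) (hv'.trans h0.symm))
          | exact Or.inr (congrArg (fun k : W.ker => (k : Multiplicative V5).toAdd) (hv'.trans h1'.symm))
    · rintro (rfl | rfl)
      · show ((W 1 : A) : G) = 1
        rw [map_one]; rfl
      · exact h1
  have hweq : ∀ {u v}, Eqv u v → w u = w v := fun {u v} h => by
    have h' : w u * w v = 1 := by rw [← hw_add, hwone]; simpa [Eqv] using h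
    rw [eq_inv_of_mul_eq_one_left h', inv_eq_of_mul_eq_one_right (hsq _ (W _).2)]
  have hpsurj : ∀ π, Perm.sign π = 1 → ∃ n ∈ N, p n = π := by
    intro π hπ
    obtain ⟨⟨n, hn⟩, e'⟩ : π ∈ q.range := by rw [hqrange]; exact Perm.mem_alternatingGroup.2 hπ
    exact ⟨n, hn, (hp hn).trans e'⟩
  have hcent2 : ∀ n ∈ N, p n = 1 → ∀ k : ℕ, n ^ 2 ^ k = 1 → n ∈ A := fun n hn h k hk =>
    L.cent_two hsq hn ((L.f_one_iff hn).2 ((hqker ⟨n, hn⟩).1 ((hp hn).symm.trans h))) hk
  -- classes of `A`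
  have hclass : ∀ a ∈ A, a ≠ 1 → IsConj a (w (ev 4)) ∨ IsConj a (w (ev 0 + ev 1)) := by
    intro a ha ha1
    obtain ⟨v, rfl⟩ := hw_surj a ha
    obtain ⟨π, hπ, h⟩ := orbit_cases v fun h => ha1 ((hwone v).2 h)
    obtain ⟨n, hn, rfl⟩ := hpsurj π hπ
    rcases h with h | h
    · refine Or.inl (isConj_iff.2 ⟨n, ?_⟩)
      rw [show n = ((⟨n, hn⟩ : N) : G) from rfl, hconjW, ← hp hn]
      exact hweq h
    · refine Or.inr (isConj_iff.2 ⟨n, ?_⟩)
      rw [show n = ((⟨n, hn⟩ : N) : G) from rfl, hconjW, ← hp hn]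
      exact hweq h
  have hout : out := by
    by_contra ho
    have := (hcov {w (ev 4), w (ev 0 + ev 1)} (fun a ha ha1 => (hclass a ha ha1).elim
      (fun h => ⟨_, by simp, h⟩) (fun h => ⟨_, by simp, h⟩))
      (fun x hx hx2 hxA => absurd ⟨x, hx, hx2, hxA⟩ ho)).trans Finset.card_le_two
    omega
  have hclosed : ∀ a ∈ A, ∀ g : G, g * a * g⁻¹ ∈ (L.T : Subgroup G) → g * a * g⁻¹ ∈ A := by
    intro a ha g hg
    by_contra hA
    have ha1 : a ≠ 1 := fun h => hA (by rw [h, mul_one, mul_inv_cancel]; exact one_mem _)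
    have hg2 : g * a * g⁻¹ * (g * a * g⁻¹) = 1 := by
      calc g * a * g⁻¹ * (g * a * g⁻¹) = g * (a * a) * g⁻¹ := by group
        _ = 1 := by rw [hsq a ha]; group
    have hag : IsConj a (g * a * g⁻¹) := isConj_iff.2 ⟨g, rfl⟩
    rcases hclass a ha ha1 with h | h
    · have := (hcov {g * a * g⁻¹, w (ev 0 + ev 1)} (fun b hb hb1 => (hclass b hb hb1).elim
        (fun h' => ⟨_, by simp, (h'.trans h.symm).trans hag⟩) (fun h' => ⟨_, by simp, h'⟩))
        (fun x hx hx2 hxA => ⟨_, by simp, houtc _ hg hg2 hA x hx hx2 hxA⟩)).trans Finset.card_le_two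
      omega
    · have := (hcov {g * a * g⁻¹, w (ev 4)} (fun b hb hb1 => (hclass b hb hb1).elim
        (fun h' => ⟨_, by simp, h'⟩) (fun h' => ⟨_, by simp, (h'.trans h.symm).trans hag⟩))
        (fun x hx hx2 hxA => ⟨_, by simp, houtc _ hg hg2 hA x hx hx2 hxA⟩)).trans Finset.card_le_two
      omega
  have hTsurj : ∀ i, ∃ x ∈ (L.T : Subgroup G), p x = kl i := by
    let qT : (L.T : Subgroup G) →* Perm (Fin 5) := q.comp (Subgroup.inclusion L.T_le)
    have hker : qT.ker = A.subgroupOf (L.T : Subgroup G) := by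
      ext x
      rw [MonoidHom.mem_ker, mem_subgroupOf]
      show q ⟨x, L.T_le x.2⟩ = 1 ↔ _
      constructor
      · intro h
        obtain ⟨k, hk⟩ := L.T.isPGroup' x
        exact hcent2 _ (L.T_le x.2) ((hp _).trans h) k (congrArg Subtype.val hk)
      · exact fun h => (hqker _).2 fun a ha => hcomm _ h _ ha
    have hcard : Nat.card qT.range = 4 := by
      have h := Subgroup.card_mul_index qT.ker
      rw [Subgroup.index_ker, hker, Nat.card_congr (subgroupOfEquivOfLe L.le_T).toEquiv, hA16] at h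
      have h64 : Nat.card (L.T : Subgroup G) = 64 := by
        obtain ⟨i⟩ := hS
        rw [Nat.card_congr ((Sylow.equiv L.T S).trans i).toEquiv, card_sylow_eight]
      omega
    have hsub : (qT.range : Set (Perm (Fin 5))) ⊆ Set.range kl := by
      rintro _ ⟨x, rfl⟩
      obtain ⟨k, hk⟩ := L.T.isPGroup' x
      have hs : Perm.sign (qT x) = 1 := by
        rw [← Perm.mem_alternatingGroup, ← hqrange]; exact ⟨_, rfl⟩
      obtain ⟨i, hi⟩ := kl_four (qT x) k hs (hqT _ x.2) (by rw [← map_pow, hk, map_one])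
      exact ⟨i, hi.symm⟩
    have heq := Set.eq_of_subset_of_ncard_le hsub (by
      rw [Set.ncard_range_of_injective kl_inj, Nat.card_fin, ← Nat.card_coe_set_eq]
      exact hcard.ge)
    intro i
    obtain ⟨x, hx⟩ : kl i ∈ (qT.range : Set (Perm (Fin 5))) := heq ▸ ⟨i, rfl⟩
    exact ⟨x, x.2, (hp (L.T_le x.2)).trans hx⟩
  have hnc : ¬ IsConj (w (ev 0)) (w (ev 0 + ev 1)) := by
    intro h
    obtain ⟨hs, hv⟩ := orbit_e0 _ rfl
    obtain ⟨n, hn, hnπ⟩ := hpsurj _ hs
    have h4 : IsConj (w (ev 0)) (w (ev 4)) := isConj_iff.2 ⟨n, by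
      rw [show n = ((⟨n, hn⟩ : N) : G) from rfl, hconjW, ← hp hn, hnπ]; exact hweq hv⟩
    exact htwo (w (ev 4)) fun a ha ha1 => (hclass a ha ha1).elim id fun h' => h'.trans (h.symm.trans h4)
  exact ⟨{
    A := A
    T := L.T
    w := w
    p := p
    le_T := L.le_T
    T_norm := L.T_le
    w_mem := fun v => (W _).2
    w_surj := hw_surj
    w_add := hw_add
    w_one := hwone
    p_mul := fun m hm n hn => by rw [hp hm, hp hn, hp (mul_mem hm hn), ← map_mul]; rfl
    conj_w := fun n hn v => by rw [hp hn]; exact hconjW ⟨n, hn⟩ v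
    p_surj := hpsurj
    p_even := fun n hn => by rw [hp hn, ← Perm.mem_alternatingGroup, ← hqrange]; exact ⟨_, rfl⟩
    cent_two := hcent2
    T_fix := fun x hx => by rw [hp (L.T_le hx)]; exact hqT _ hx
    T_surj := hTsurj
    closed := hclosed
    not_conj := hnc
    outside := hout }, rfl⟩

end CfsgLib.A8Three
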